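import Cfsg.Agent.ClassBound.Unique
import Cfsg.Agent.Lib.GLSemisimple.DualPoly

/-!
Kernel dimensions of polynomials in a matrix: transposes, field automorphisms, inverses, block sums.
-/

set_option autoImplicit false

namespace Cfsg.Agent.CN9

open Polynomial Matrix Module Cfsg.Agent.GLSemi Cfsg.Agent.ClassBound

universe u

variable {F : Type u} [Field F]

/-- nullity of a matrix -/
noncomputable def nullity {ι : Type*} [Fintype ι] [DecidableEq ι] (A : Matrix ι ι F) : ℕ :=
  finrank F (LinearMap.ker (Matrix.toLin' A))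

theorem kerDim_eq_nullity {n : ℕ} (M : Matrix (Fin n) (Fin n) F) (P : F[X]) :
    kerDim M P = nullity (aeval M P) := by
  rw [kerDim, nullity]
  have h : aeval (Matrix.toLinAlgEquiv' M) P = Matrix.toLinAlgEquiv' (aeval M P) :=
    aeval_algHom_apply (Matrix.toLinAlgEquiv' : Matrix (Fin n) (Fin n) F ≃ₐ[F] _).toAlgHom M P
  exact congrArg (fun T => finrank F (LinearMap.ker T)) h

theorem rank_add_nullity {n : ℕ} (A : Matrix (Fin n) (Fin n) F) : A.rank + nullity A = n := by
  have h := LinearMap.finrank_range_add_finrank_ker (Matrix.toLin' A)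
  rw [Module.finrank_fin_fun] at h
  exact h

theorem nullity_mul_isUnit {n : ℕ} (A : Matrix (Fin n) (Fin n) F) {B : Matrix (Fin n) (Fin n) F} (hB : IsUnit B) :
    nullity (A * B) = nullity A := by
  have h1 := rank_add_nullity (A * B)
  rw [rank_mul_eq_left_of_isUnit_det B A ((Matrix.isUnit_iff_isUnit_det B).1 hB)] at h1
  have := rank_add_nullity A
  omega

theorem nullity_transpose {n : ℕ} (A : Matrix (Fin n) (Fin n) F) : nullity Aᵀ = nullity A := by
  have h1 := rank_add_nullity Aᵀ
  rw [Matrix.rank_transpose] at h1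
  have := rank_add_nullity A
  omega

theorem nullity_smul {n : ℕ} (A : Matrix (Fin n) (Fin n) F) {c : F} (hc : c ≠ 0) :
    nullity (c • A) = nullity A := by
  rw [nullity, nullity, map_smul, LinearMap.ker_smul _ _ hc]

variable [Finite F]

theorem nullity_map {n : ℕ} (σ : F →+* F) (hσ : ∀ a, σ (σ a) = a) (A : Matrix (Fin n) (Fin n) F) :
    nullity (A.map σ) = nullity A := by
  have key : ∀ (B : Matrix (Fin n) (Fin n) F) (v : Fin n → F),
      v ∈ LinearMap.ker (Matrix.toLin' B) → (σ ∘ v) ∈ LinearMap.ker (Matrix.toLin' (B.map σ)) := by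
    intro B v hv
    rw [LinearMap.mem_ker, Matrix.toLin'_apply] at hv ⊢
    funext i
    show _ = (0 : F)
    rw [← RingHom.map_mulVec, hv]
    exact map_zero σ
  have hback : (A.map σ).map σ = A := by ext i j; exact hσ _
  let e : LinearMap.ker (Matrix.toLin' (A.map σ)) ≃ LinearMap.ker (Matrix.toLin' A) :=
    { toFun := fun v => ⟨σ ∘ v.1, by simpa [hback] using key _ v.1 v.2⟩
      invFun := fun v => ⟨σ ∘ v.1, key _ v.1 v.2⟩
      left_inv := fun v => Subtype.ext (funext fun i => hσ _)
      right_inv := fun v => Subtype.ext (funext fun i => hσ _) }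
  have h := Nat.card_congr e
  rw [Module.natCard_eq_pow_finrank (K := F) (V := LinearMap.ker (Matrix.toLin' (A.map σ))),
    Module.natCard_eq_pow_finrank (K := F) (V := LinearMap.ker (Matrix.toLin' A))] at h
  exact Nat.pow_right_injective (Finite.one_lt_card (α := F)) h

omit [Finite F] in
theorem aeval_reverse {A : Type*} [Ring A] [Algebra F A] (x : Aˣ) (P : F[X]) :
    aeval (x : A) P.reverse = aeval ((x⁻¹ : Aˣ) : A) P * (x : A) ^ P.natDegree := by
  rw [aeval_eq_sum_range' (Nat.lt_succ_of_le (reverse_natDegree_le P)), aeval_eq_sum_range, Finset.sum_mul,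
    ← Finset.sum_range_reflect]
  refine Finset.sum_congr rfl fun i hi => ?_
  have hi' : i ≤ P.natDegree := by rw [Finset.mem_range] at hi; omega
  have e : P.natDegree + 1 - 1 - i = P.natDegree - i := by omega
  rw [e, coeff_reverse, revAt_le (Nat.sub_le _ _), Nat.sub_sub_self hi', smul_mul_assoc]
  congr 1
  obtain ⟨k, hk⟩ : ∃ k, P.natDegree = i + k := ⟨P.natDegree - i, by omega⟩
  rw [hk, Nat.add_sub_cancel_left, ← Units.val_pow_eq_pow_val, ← Units.val_pow_eq_pow_val,
    ← Units.val_pow_eq_pow_val, ← Units.val_mul, inv_pow, pow_add, inv_mul_cancel_left]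

omit [Finite F] in
theorem map_reverse (σ : F →+* F) (P : F[X]) : (P.map σ).reverse = P.reverse.map σ := by
  rw [reverse, reverse, natDegree_map, reflect_map]

/-- the kernels of a polynomial in the `σ`-dual matrix -/
theorem kerDim_dual {n : ℕ} (σ : F →+* F) (hσ : ∀ a, σ (σ a) = a) (M : GL (Fin n) F) {P : F[X]}
    (hP0 : P.coeff 0 ≠ 0) :
    kerDim (((M : Matrix (Fin n) (Fin n) F).map σ)ᵀ)⁻¹ P = kerDim (M : Matrix (Fin n) (Fin n) F) (dual σ P) := by
  have hu : IsUnit ((M : Matrix (Fin n) (Fin n) F).map σ)ᵀ :=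
    (Matrix.isUnit_transpose _).mpr (M.isUnit.map σ.mapMatrix)
  have hinv : (((M : Matrix (Fin n) (Fin n) F).map σ)ᵀ)⁻¹ = ((hu.unit⁻¹ : GL (Fin n) F) : Matrix (Fin n) (Fin n) F) := by
    rw [Matrix.coe_units_inv, IsUnit.unit_spec]
  have htr : ∀ (A : Matrix (Fin n) (Fin n) F) (Q : F[X]), aeval Aᵀ Q = (aeval A Q)ᵀ := by
    intro A Q
    induction Q using Polynomial.induction_on with
    | C a => simp [Algebra.algebraMap_eq_smul_one]
    | add p q hp hq => simp [hp, hq]
    | monomial k a _ => simp [Algebra.algebraMap_eq_smul_one, transpose_pow]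
  have hmap : ∀ (A : Matrix (Fin n) (Fin n) F) (Q : F[X]), aeval (A.map σ) (Q.map σ) = (aeval A Q).map σ := by
    intro A Q
    have hA : A.map σ = σ.mapMatrix A := rfl
    rw [hA]
    show _ = σ.mapMatrix (aeval A Q)
    induction Q using Polynomial.induction_on with
    | C a =>
      simp only [Polynomial.map_C, aeval_C, Algebra.algebraMap_eq_smul_one]
      ext i j
      by_cases h : i = j <;> simp [h]
    | add p q hp hq => rw [Polynomial.map_add, map_add, hp, hq, map_add, map_add]
    | monomial k a h =>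
      rw [Polynomial.map_mul, Polynomial.map_pow, map_X] at h ⊢
      rw [pow_succ, ← mul_assoc, map_mul, h, aeval_X, ← mul_assoc, map_mul (aeval A) (C a * X ^ k) X, map_mul σ.mapMatrix, aeval_X]
  rw [kerDim_eq_nullity, kerDim_eq_nullity, hinv]
  have h1 := aeval_reverse hu.unit P
  rw [IsUnit.unit_spec] at h1
  rw [← nullity_mul_isUnit (aeval _ P) ((hu.pow P.natDegree)), ← h1, htr, nullity_transpose,
    show P.reverse = (P.reverse.map σ).map σ by
      rw [Polynomial.map_map, show σ.comp σ = RingHom.id F from RingHom.ext hσ, Polynomial.map_id],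
    hmap, nullity_map σ hσ, dual, map_mul, aeval_C, ← Algebra.smul_def,
    nullity_smul _ (inv_ne_zero ((map_ne_zero σ).mpr hP0))]

end Cfsg.Agent.CN9
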