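import Cfsg.Agent.ClassNum9.KerDim
import Cfsg.Agent.ClassBound.Norm

/-!
Matrices realising given elementary divisor data, recognised by kernel dimensions.
-/

set_option autoImplicit false

namespace Cfsg.Agent.CN9

open Polynomial Matrix Module Cfsg.Agent.GLSemi Cfsg.Agent.ClassBound

universe u

variable {F : Type u} [Field F]

/-- the kernel dimensions of `M` are those of the data `s` -/
def Realizes {n : ℕ} (M : Matrix (Fin n) (Fin n) F) (s : Multiset (F[X] × ℕ)) : Prop :=
  ∀ f : F[X], Irreducible f → f.Monic → f.coeff 0 ≠ 0 → ∀ i, kerDim M (f ^ i) = minSum s f i * f.natDegree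

theorem realizes_of_hasDivData {n : ℕ} {M : Matrix (Fin n) (Fin n) F} {s : Multiset (F[X] × ℕ)}
    (hs : IsDivData n s) (h : HasDivData M s) : Realizes M s :=
  fun _ hf hm _ i => kerDim_pow hs h hf hm i

theorem eq_of_realizes {n m : ℕ} {M : Matrix (Fin n) (Fin n) F} {s s' : Multiset (F[X] × ℕ)}
    (hs : ∀ z ∈ s, z.1.Monic ∧ Irreducible z.1 ∧ z.1.coeff 0 ≠ 0 ∧ 1 ≤ z.2 ∧ z.2 ≤ m)
    (hs' : ∀ z ∈ s', z.1.Monic ∧ Irreducible z.1 ∧ z.1.coeff 0 ≠ 0 ∧ 1 ≤ z.2 ∧ z.2 ≤ m)
    (h : Realizes M s) (h' : Realizes M s') : s = s' := by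
  classical
  refine Multiset.ext.2 fun z => ?_
  by_cases hz : z.1.Monic ∧ Irreducible z.1 ∧ z.1.coeff 0 ≠ 0 ∧ 1 ≤ z.2
  · obtain ⟨f, e⟩ := z
    obtain ⟨hm, hf, h0, he⟩ := hz
    simp only at hm hf h0 he
    obtain ⟨e, rfl⟩ : ∃ e', e = e' + 1 := ⟨e - 1, by omega⟩
    have hk : ∀ i, minSum s f i = minSum s' f i := fun i =>
      Nat.eq_of_mul_eq_mul_right hf.natDegree_pos ((h f hf hm h0 i).symm.trans (h' f hf hm h0 i))
    have a := minSum_succ s f e
    have b := minSum_succ s' f e
    rw [hk, hk, hk] at a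
    omega
  · rw [Multiset.count_eq_zero_of_notMem fun hc => hz ⟨(hs z hc).1, (hs z hc).2.1, (hs z hc).2.2.1, (hs z hc).2.2.2.1⟩,
      Multiset.count_eq_zero_of_notMem fun hc => hz ⟨(hs' z hc).1, (hs' z hc).2.1, (hs' z hc).2.2.1, (hs' z hc).2.2.2.1⟩]

theorem hasDivData_of_realizes {n : ℕ} (M : GL (Fin n) F) {s : Multiset (F[X] × ℕ)} (hs : IsDivData n s)
    (h : Realizes (M : Matrix (Fin n) (Fin n) F) s) : HasDivData (M : Matrix (Fin n) (Fin n) F) s := by
  obtain ⟨s', hs', hM⟩ := exists_divData M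
  rwa [eq_of_realizes hs.1 hs'.1 h (realizes_of_hasDivData hs' hM)]

theorem isConj_of_realizes {n : ℕ} {g h : GL (Fin n) F} {s : Multiset (F[X] × ℕ)} (hs : IsDivData n s)
    (hg : Realizes (g : Matrix (Fin n) (Fin n) F) s) (hh : Realizes (h : Matrix (Fin n) (Fin n) F) s) :
    IsConj g h :=
  isConj_of_divData (hasDivData_of_realizes g hs hg) (hasDivData_of_realizes h hs hh)

/-- the dual data -/
noncomputable def dualData (σ : F →+* F) (s : Multiset (F[X] × ℕ)) : Multiset (F[X] × ℕ) :=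
  s.map fun z => (dual σ z.1, z.2)

theorem dual_one (σ : F →+* F) : dual σ (1 : F[X]) = 1 := by
  rw [dual, reverse, natDegree_one, reflect_one]; simp

theorem dual_pow (σ : F →+* F) (P : F[X]) (i : ℕ) : dual σ (P ^ i) = dual σ P ^ i := by
  induction i with
  | zero => rw [pow_zero, pow_zero, dual_one]
  | succ i ih => rw [pow_succ, pow_succ, dual_mul, ih]

theorem dual_coeff_zero_ne (σ : F →+* F) {P : F[X]} (hP : P.Monic) (h0 : P.coeff 0 ≠ 0) :
    (dual σ P).coeff 0 ≠ 0 := by
  rw [coeff_zero_dual σ hP]; exact inv_ne_zero ((map_ne_zero σ).mpr h0)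

theorem dualData_valid {σ : F →+* F} (hσ : ∀ a, σ (σ a) = a) {n : ℕ} {s : Multiset (F[X] × ℕ)}
    (hs : IsDivData n s) : IsDivData n (dualData σ s) := by
  refine ⟨fun z hz => ?_, ?_⟩
  · obtain ⟨w, hw, rfl⟩ := Multiset.mem_map.1 hz
    obtain ⟨a, b, c, d⟩ := hs.1 w hw
    exact ⟨monic_dual σ c, irreducible_dual σ hσ b a c, dual_coeff_zero_ne σ a c, d⟩
  · refine Eq.trans ?_ hs.2
    rw [dualData, Multiset.map_map]
    refine congrArg Multiset.sum (Multiset.map_congr rfl fun w hw => ?_)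
    show w.2 * (dual σ w.1).natDegree = _
    rw [natDegree_dual σ (hs.1 w hw).2.2.1]

theorem minSum_dualData {σ : F →+* F} (hσ : ∀ a, σ (σ a) = a) {s : Multiset (F[X] × ℕ)}
    (hs : ∀ z ∈ s, z.1.Monic ∧ z.1.coeff 0 ≠ 0) {f : F[X]} (hf : f.Monic) (h0 : f.coeff 0 ≠ 0) (i : ℕ) :
    minSum (dualData σ s) f i = minSum s (dual σ f) i := by
  classical
  simp only [minSum, dualData, Multiset.map_map]
  refine congrArg Multiset.sum (Multiset.map_congr rfl fun w hw => ?_)
  simp only [Function.comp_apply]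
  have hiff : dual σ w.1 = f ↔ w.1 = dual σ f := by
    constructor
    · intro h; rw [← h, dual_dual σ hσ (hs w hw).1 (hs w hw).2]
    · intro h; rw [h, dual_dual σ hσ hf h0]
  simp only [hiff]

theorem realizes_dual [Finite F] {σ : F →+* F} (hσ : ∀ a, σ (σ a) = a) {n : ℕ} (M : GL (Fin n) F)
    {s : Multiset (F[X] × ℕ)} (hs : IsDivData n s) (h : Realizes (M : Matrix (Fin n) (Fin n) F) s) :
    Realizes (((M : Matrix (Fin n) (Fin n) F).map σ)ᵀ)⁻¹ (dualData σ s) := by
  intro f hf hm h0 i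
  have h0' : (f ^ i).coeff 0 ≠ 0 := by
    rw [coeff_zero_eq_eval_zero, eval_pow, ← coeff_zero_eq_eval_zero]; exact pow_ne_zero _ h0
  rw [kerDim_dual σ hσ M h0', dual_pow, h _ (irreducible_dual σ hσ hf hm h0) (monic_dual σ h0)
    (dual_coeff_zero_ne σ hm h0), natDegree_dual σ h0,
    minSum_dualData hσ (fun z hz => ⟨(hs.1 z hz).1, (hs.1 z hz).2.2.1⟩) hm h0]

/-- the block sum of two matrices, as an algebra map -/
noncomputable def blockSum (d m : ℕ) :
    Matrix (Fin d) (Fin d) F × Matrix (Fin m) (Fin m) F →ₐ[F] Matrix (Fin (d + m)) (Fin (d + m)) F :=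
  (Matrix.reindexAlgEquiv F F finSumFinEquiv).toAlgHom.comp
    { toFun := fun A => Matrix.fromBlocks A.1 0 0 A.2
      map_one' := by simp [Matrix.fromBlocks_one]
      map_mul' := fun A B => by simp [Matrix.fromBlocks_multiply]
      map_zero' := Matrix.fromBlocks_zero
      map_add' := fun A B => by simp [Matrix.fromBlocks_add]
      commutes' := fun r => by
        simp [Algebra.algebraMap_eq_smul_one, ← Matrix.fromBlocks_one, Matrix.fromBlocks_smul] }

theorem blockSum_apply {d m : ℕ} (A : Matrix (Fin d) (Fin d) F × Matrix (Fin m) (Fin m) F) :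
    blockSum d m A = Matrix.reindex finSumFinEquiv finSumFinEquiv (Matrix.fromBlocks A.1 0 0 A.2) := rfl

theorem det_blockSum {d m : ℕ} (A : Matrix (Fin d) (Fin d) F) (B : Matrix (Fin m) (Fin m) F) :
    (blockSum d m (A, B)).det = A.det * B.det := by
  rw [blockSum_apply, Matrix.det_reindex_self, Matrix.det_fromBlocks_zero₂₁]

theorem isUnit_blockSum {d m : ℕ} {A : Matrix (Fin d) (Fin d) F} {B : Matrix (Fin m) (Fin m) F}
    (hA : IsUnit A) (hB : IsUnit B) : IsUnit (blockSum d m (A, B)) :=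
  (Prod.isUnit_iff.2 ⟨hA, hB⟩).map _

variable [Finite F]

theorem nullity_blockSum {d m : ℕ} (A : Matrix (Fin d) (Fin d) F) (B : Matrix (Fin m) (Fin m) F) :
    nullity (blockSum d m (A, B)) = nullity A + nullity B := by
  have hmv : ∀ (v : Fin (d + m) → F), Matrix.toLin' (blockSum d m (A, B)) v =
      Sum.elim (A *ᵥ fun i => v (finSumFinEquiv (Sum.inl i))) (B *ᵥ fun i => v (finSumFinEquiv (Sum.inr i)))
        ∘ finSumFinEquiv.symm := by
    intro v
    rw [Matrix.toLin'_apply, blockSum_apply, Matrix.reindex_apply, Matrix.submatrix_mulVec_equiv,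
      Matrix.fromBlocks_mulVec]
    simp [Function.comp_def]
  let e : LinearMap.ker (Matrix.toLin' (blockSum d m (A, B))) ≃
      LinearMap.ker (Matrix.toLin' A) × LinearMap.ker (Matrix.toLin' B) :=
    { toFun := fun v => (⟨fun i => v.1 (finSumFinEquiv (Sum.inl i)), by
          have h := v.2
          rw [LinearMap.mem_ker, hmv] at h
          rw [LinearMap.mem_ker, Matrix.toLin'_apply]
          funext i
          simpa using congrFun h (finSumFinEquiv (Sum.inl i))⟩,
        ⟨fun i => v.1 (finSumFinEquiv (Sum.inr i)), by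
          have h := v.2
          rw [LinearMap.mem_ker, hmv] at h
          rw [LinearMap.mem_ker, Matrix.toLin'_apply]
          funext i
          simpa using congrFun h (finSumFinEquiv (Sum.inr i))⟩)
      invFun := fun w => ⟨Sum.elim w.1.1 w.2.1 ∘ finSumFinEquiv.symm, by
          have h1 := w.1.2
          have h2 := w.2.2
          rw [LinearMap.mem_ker, Matrix.toLin'_apply] at h1 h2
          rw [LinearMap.mem_ker, hmv]
          funext j
          obtain ⟨x, rfl⟩ := finSumFinEquiv.surjective j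
          cases x with
          | inl i => simpa using congrFun h1 i
          | inr i => simpa using congrFun h2 i⟩
      left_inv := fun v => Subtype.ext (funext fun j => by
          obtain ⟨x, rfl⟩ := finSumFinEquiv.surjective j
          cases x <;> simp)
      right_inv := fun w => by ext i <;> simp }
  have h := Nat.card_congr e
  rw [Nat.card_prod, Module.natCard_eq_pow_finrank (K := F) (V := LinearMap.ker (Matrix.toLin' (blockSum d m (A, B)))),
    Module.natCard_eq_pow_finrank (K := F) (V := LinearMap.ker (Matrix.toLin' A)),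
    Module.natCard_eq_pow_finrank (K := F) (V := LinearMap.ker (Matrix.toLin' B)), ← pow_add] at h
  exact Nat.pow_right_injective (Finite.one_lt_card (α := F)) h

theorem realizes_blockSum {d m : ℕ} {A : Matrix (Fin d) (Fin d) F} {B : Matrix (Fin m) (Fin m) F}
    {s t : Multiset (F[X] × ℕ)} (hA : Realizes A s) (hB : Realizes B t) :
    Realizes (blockSum d m (A, B)) (s + t) := by
  intro f hf hm h0 i
  rw [kerDim_eq_nullity, aeval_algHom_apply, aeval_prod_apply, nullity_blockSum, ← kerDim_eq_nullity,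
    ← kerDim_eq_nullity, hA f hf hm h0 i, hB f hf hm h0 i, minSum, minSum, minSum, Multiset.map_add,
    Multiset.sum_add, add_mul]

/-- a companion matrix realising a single elementary divisor, with the determinants of its polynomials -/
theorem exists_single {g : F[X]} (hg : Irreducible g) (hgm : g.Monic) (hg0 : g.coeff 0 ≠ 0) {e : ℕ} (he : 1 ≤ e) :
    ∃ M : GL (Fin (e * g.natDegree)) F, Realizes (M : Matrix (Fin (e * g.natDegree)) (Fin (e * g.natDegree)) F) {(g, e)} ∧
      ∀ h : F[X], (aeval (M : Matrix (Fin (e * g.natDegree)) (Fin (e * g.natDegree)) F) h).det =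
        Algebra.norm F (AdjoinRoot.mk (g ^ e) h) := by
  classical
  have hQm : (g ^ e).Monic := hgm.pow e
  set Q := g ^ e with hQ
  let pb := AdjoinRoot.powerBasis' hQm
  have hdim : pb.dim = e * g.natDegree := by simp [pb, hQ]
  haveI : Module.Finite F (AdjoinRoot Q) := pb.finite
  let ψ : AdjoinRoot Q ≃ₗ[F] (Fin (e * g.natDegree) → F) :=
    (pb.basis.reindex (finCongr hdim)).equivFun
  let Φ : AdjoinRoot Q →ₐ[F] Matrix (Fin (e * g.natDegree)) (Fin (e * g.natDegree)) F :=
    ((LinearMap.toMatrixAlgEquiv' (R := F)).toAlgHom.comp (ψ.conjAlgEquiv F).toAlgHom).comp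
      (Algebra.lmul F (AdjoinRoot Q))
  have hlin : ∀ x, Matrix.toLin' (Φ x) = ψ.conj (Algebra.lmul F _ x) := fun x => by
    show Matrix.toLin' (LinearMap.toMatrix' (ψ.conj (Algebra.lmul F (AdjoinRoot Q) x))) = _
    rw [Matrix.toLin'_toMatrix']
  have haeval : ∀ P : F[X], aeval (Φ (AdjoinRoot.root Q)) P = Φ (AdjoinRoot.mk Q P) := fun P => by
    rw [aeval_algHom_apply, AdjoinRoot.aeval_eq]
  have hdet : ∀ x, (Φ x).det = Algebra.norm F x := fun x => by
    rw [← LinearMap.det_toLin', hlin, LinearEquiv.conj_apply, LinearMap.comp_assoc, LinearMap.det_conj,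
      Algebra.norm_apply]
  have hM : (Φ (AdjoinRoot.root Q)).det ≠ 0 := by
    rw [hdet, norm_root hQm]
    refine mul_ne_zero (pow_ne_zero _ (neg_ne_zero.2 one_ne_zero)) ?_
    rw [hQ, coeff_zero_eq_eval_zero, eval_pow, ← coeff_zero_eq_eval_zero]
    exact pow_ne_zero _ hg0
  refine ⟨GeneralLinearGroup.mkOfDetNeZero (Φ (AdjoinRoot.root Q)) hM, ?_, fun h => ?_⟩
  · intro f hf hm _ i
    show kerDim (Φ (AdjoinRoot.root Q)) (f ^ i) = _
    rw [kerDim_eq_nullity, haeval, nullity, hlin]
    have hker : finrank F (LinearMap.ker (ψ.conj (Algebra.lmul F _ (AdjoinRoot.mk Q (f ^ i))))) =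
        finrank F (LinearMap.ker (mulQ (f ^ i) Q)) := by
      have h : LinearMap.ker (ψ.conj (Algebra.lmul F _ (AdjoinRoot.mk Q (f ^ i)))) =
          (LinearMap.ker (mulQ (f ^ i) Q)).map (ψ : AdjoinRoot Q →ₗ[F] _) := by
        ext w
        obtain ⟨v, rfl⟩ := ψ.surjective w
        rw [LinearMap.mem_ker, LinearEquiv.conj_apply_apply, LinearEquiv.symm_apply_apply,
          LinearEquiv.map_eq_zero_iff]
        constructor
        · exact fun hv => ⟨v, hv, rfl⟩
        · rintro ⟨u, hu, huv⟩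
          exact ψ.injective huv ▸ hu
      rw [h]
      exact (ψ.submoduleMap _).finrank_eq.symm
    rw [hker, minSum, Multiset.map_singleton, Multiset.sum_singleton]
    simp only
    split_ifs with hgf
    · rw [hQ, hgf]; exact finrank_ker_mulQ_self hm i e
    · rw [hQ, ker_mulQ_ne hf hg hm hgm (Ne.symm hgf), finrank_bot, zero_mul]
  · show (aeval (Φ (AdjoinRoot.root Q)) h).det = _
    rw [haeval, hdet]

theorem exists_realizer (s : Multiset (F[X] × ℕ))
    (hs : ∀ z ∈ s, z.1.Monic ∧ Irreducible z.1 ∧ z.1.coeff 0 ≠ 0 ∧ 1 ≤ z.2) :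
    ∀ n, (s.map fun z => z.2 * z.1.natDegree).sum = n →
      ∃ M : GL (Fin n) F, Realizes (M : Matrix (Fin n) (Fin n) F) s := by
  induction s using Multiset.induction_on with
  | empty =>
    intro n hn
    simp at hn
    subst hn
    refine ⟨1, fun f _ _ _ i => ?_⟩
    rw [kerDim, minSum, Multiset.map_zero, Multiset.sum_zero, zero_mul]
    exact Module.finrank_zero_of_subsingleton
  | cons z t ih =>
    intro n hn
    rw [Multiset.map_cons, Multiset.sum_cons] at hn
    subst hn
    obtain ⟨hm, hi, h0, he⟩ := hs z (Multiset.mem_cons_self _ _)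
    obtain ⟨A, hA, -⟩ := exists_single hi hm h0 he
    obtain ⟨B, hB⟩ := ih (fun w hw => hs w (Multiset.mem_cons_of_mem hw)) _ rfl
    exact ⟨(isUnit_blockSum A.isUnit B.isUnit).unit, by
      simpa [Multiset.singleton_add] using realizes_blockSum hA hB⟩

end Cfsg.Agent.CN9
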