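import Cfsg.Agent.ClassNum9.SUNumeric

/-!
`k(SU_n(q)) ≤ 8.26 q^(n-1)`.
-/

set_option autoImplicit false

namespace Cfsg.Agent.CN9

open Finset Cfsg.Agent.GLSemi Cfsg.Agent.ClassBound

universe u

variable {q : ℕ}

theorem one_le_fFac (hq : 2 ≤ q) {i : ℕ} (hi : 2 ≤ i) : 1 ≤ fFac q i := by
  have h := qz_lt_one hq hi
  have h1 : 0 ≤ (1 / (q : ℝ)) ^ i := by positivity
  have h2 : 0 ≤ (q : ℝ) * (1 / (q : ℝ)) ^ i := by positivity
  rw [fFac, one_le_div (by linarith)]
  linarith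

theorem pFac_le_max (hq : 2 ≤ q) {a : ℕ} (ha : 2 ≤ a) (K : ℕ) :
    pFac q K ≤ (∏ i ∈ Ico 2 a, fFac q i) * ∏ i ∈ Ico a (max (K + 1) a), fFac q i := by
  rw [prod_Ico_consecutive _ ha (le_max_right _ _), pFac]
  refine prod_le_prod_of_subset_of_one_le (fun i hi => ?_) (fun i hi => fFac_nonneg hq (mem_Icc.1 hi).1)
    fun i hi _ => one_le_fFac hq (mem_Ico.1 hi).1
  simp only [mem_Icc, mem_Ico] at hi ⊢
  omega

theorem pFac_two (K : ℕ) : pFac 2 K ≤ 551 / 100 := by
  refine (pFac_le_max le_rfl (a := 7) (by norm_num) K).trans ?_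
  have h := tail_prod_le (q := 2) le_rfl (a := 7) (by norm_num) (by norm_num) (max (K + 1) 7)
  have e : (∏ i ∈ Ico 2 7, fFac 2 i) = 2.5 * 1.5 * (17 / 14) * (33 / 30) * (65 / 62) := by
    rw [prod_Ico_succ_top (by norm_num), prod_Ico_succ_top (by norm_num), prod_Ico_succ_top (by norm_num),
      prod_Ico_succ_top (by norm_num), prod_Ico_succ_top (by norm_num), Ico_self, prod_empty]
    norm_num [fFac]
  rw [e]
  refine (mul_le_mul_of_nonneg_left h (by norm_num)).trans ?_
  norm_num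

theorem pFac_three_le (hq : 3 ≤ q) (K : ℕ) :
    pFac q K ≤ 15 / 7 ∧ (q : ℝ) * (pFac q K - 1) ≤ 24 / 7 := by
  rcases Nat.lt_or_ge q 4 with h | h
  · obtain rfl : q = 3 := by omega
    have h1 : pFac 3 K ≤ 15 / 7 := by
      refine (pFac_le_max (by norm_num) (a := 3) (by norm_num) K).trans ?_
      have h := tail_prod_le (q := 3) (by norm_num) (a := 3) (by norm_num) (by norm_num) (max (K + 1) 3)
      have e : (∏ i ∈ Ico 2 3, fFac 3 i) = 5 / 3 := by
        rw [prod_Ico_succ_top (by norm_num), Ico_self, prod_empty]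
        norm_num [fFac]
      rw [e]
      refine (mul_le_mul_of_nonneg_left h (by norm_num)).trans ?_
      norm_num
    exact ⟨h1, by push_cast; linarith⟩
  · have hq' : (4 : ℝ) ≤ q := by exact_mod_cast h
    have e : ((q : ℝ) + 1) * (q : ℝ) / ((q : ℝ) - 1) * (1 / (q : ℝ)) ^ 2 =
        ((q : ℝ) + 1) / ((q : ℝ) * ((q : ℝ) - 1)) := by
      have : (q : ℝ) - 1 ≠ 0 := by linarith
      field_simp
    have hlt : ((q : ℝ) + 1) / ((q : ℝ) * ((q : ℝ) - 1)) ≤ 5 / 12 := by
      rw [div_le_div_iff₀ (mul_pos (by linarith) (by linarith)) (by norm_num)]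
      nlinarith
    have h1 : pFac q K ≤ 1 / (1 - ((q : ℝ) + 1) / ((q : ℝ) * ((q : ℝ) - 1))) := by
      refine (pFac_le_max (by omega) (a := 2) le_rfl K).trans ?_
      rw [Ico_self, prod_empty, one_mul, ← e]
      exact tail_prod_le (by omega) le_rfl (by rw [e]; linarith) _
    refine ⟨h1.trans ?_, ?_⟩
    · rw [div_le_div_iff₀ (by linarith) (by norm_num)]
      linarith
    · refine (mul_le_mul_of_nonneg_left (sub_le_sub_right h1 1) (by linarith)).trans ?_
      have h0 : (q : ℝ) * ((q : ℝ) - 1) ≠ 0 := (mul_pos (by linarith) (by linarith)).ne'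
      have h2 : (0 : ℝ) < (q : ℝ) * ((q : ℝ) - 1) - ((q : ℝ) + 1) := by nlinarith
      have e2 : 1 / (1 - ((q : ℝ) + 1) / ((q : ℝ) * ((q : ℝ) - 1))) - 1 =
          ((q : ℝ) + 1) / ((q : ℝ) * ((q : ℝ) - 1) - ((q : ℝ) + 1)) := by
        rw [one_sub_div h0, one_div_div, div_sub_one h2.ne']
        congr 1
        ring
      rw [e2, ← mul_div_assoc, div_le_iff₀ h2]
      nlinarith

theorem mNum_mono (s : ℕ → ℕ) (h0 : s 0 = 1) (m : ℕ) : ∀ {K L : ℕ}, K ≤ L → mNum s K m ≤ mNum s L m := by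
  intro K L h
  induction h with
  | refl => exact le_rfl
  | @step L _ ih =>
    refine ih.trans ?_
    rcases L with _ | L
    · simp [mNum]
    · rw [mNum]
      refine le_trans ?_ (single_le_sum (f := fun e => s e * mNum s (L + 1) (m - (L + 2) * e))
        (fun e _ => Nat.zero_le _) (mem_range.2 (Nat.succ_pos _) : 0 ∈ _))
      simp [h0]

theorem main_eq (hq : 0 < q) {n : ℕ} (hn : 1 ≤ n) :
    (((∑ d ∈ Icc 1 n, q ^ (d - 1) * mNum (sSU q) n (n - d)) + mNum (sSU q) n n : ℕ) : ℝ) =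
      (q : ℝ) ^ (n - 1) * ((∑ j ∈ range n, xTerm q n j) + (q : ℝ) * xTerm q n n) := by
  have hq' : (q : ℝ) ≠ 0 := by exact_mod_cast hq.ne'
  rw [Nat.cast_add, Nat.cast_sum, mul_add, mul_sum]
  congr 1
  · refine sum_bij' (fun d _ => n - d) (fun j _ => n - j) ?_ ?_ ?_ ?_ ?_
    all_goals intro d hd
    all_goals simp only [mem_range, mem_Icc] at hd ⊢
    · omega
    · omega
    · omega
    · omega
    · rw [Nat.cast_mul, Nat.cast_pow, xTerm, eq_comm, ← mul_div_assoc, div_eq_iff (pow_ne_zero _ hq'),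
        mul_right_comm, ← pow_add]
      congr 2
      omega
  · rw [xTerm, ← mul_assoc, ← pow_succ, show n - 1 + 1 = n by omega, mul_div_cancel₀ _ (pow_ne_zero _ hq')]

theorem tNum_le (hq : 2 ≤ q) (m : ℕ) :
    (tNum (sSU q) m : ℝ) ≤ (1 + 1 / (q : ℝ)) * (q : ℝ) ^ m * pFac q m := by
  have hq' : (0 : ℝ) < q := by exact_mod_cast (by omega : 0 < q)
  refine le_trans ?_ (mul_le_mul_of_nonneg_left (sum_x_le hq m m) (by positivity))
  rw [tNum, Nat.cast_sum, mul_sum]
  conv_rhs => rw [← sum_range_reflect]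
  refine sum_le_sum fun d hd => ?_
  rw [mem_range] at hd
  rw [show m + 1 - 1 - d = m - d by omega, xTerm, Nat.cast_mul]
  have hsd : (sSU q d : ℝ) ≤ (1 + 1 / (q : ℝ)) * (q : ℝ) ^ d := by
    rcases d with _ | d
    · simp [sSU]
    · simp only [sSU, Nat.succ_ne_zero, if_false, Nat.add_sub_cancel]
      push_cast
      rw [pow_succ]
      apply le_of_eq
      field_simp
  refine (mul_le_mul_of_nonneg_right hsd (Nat.cast_nonneg _)).trans (le_of_eq ?_)
  rw [show (q : ℝ) ^ m = (q : ℝ) ^ d * (q : ℝ) ^ (m - d) by rw [← pow_add]; congr 1; omega]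
  field_simp

theorem sub_one_mul_pow_le (hq : 3 ≤ q) {n : ℕ} (hn : 2 ≤ n) : (n - 1) * q ^ (n / 2) ≤ q ^ (n - 1) := by
  have key : ∀ k : ℕ, 2 * k + 1 ≤ 3 ^ k := by
    intro k
    induction k with
    | zero => simp
    | succ k ih => rw [pow_succ]; omega
  calc (n - 1) * q ^ (n / 2) ≤ q ^ (n - 1 - n / 2) * q ^ (n / 2) := by
        refine Nat.mul_le_mul_right _ (le_trans ?_ ((key _).trans (Nat.pow_le_pow_left hq _)))
        omega
    _ = q ^ (n - 1) := by rw [← pow_add]; congr 1; omega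

/-- the numeric inequality -/
theorem num_bound_three (hq : 3 ≤ q) {n : ℕ} (hn : 2 ≤ n) :
    100 * ((∑ d ∈ Icc 1 n, q ^ (d - 1) * mNum (sSU q) n (n - d)) + mNum (sSU q) n n +
      ∑ D ∈ (n.divisors.erase 1).filter (· ∣ q + 1), D.totient * tNum (sSU q) (n / D)) ≤ 826 * q ^ (n - 1) := by
  have hq' : (3 : ℝ) ≤ q := by exact_mod_cast hq
  have hD : (↑(∑ D ∈ (n.divisors.erase 1).filter (· ∣ q + 1), D.totient * tNum (sSU q) (n / D)) : ℝ) ≤
      20 / 7 * (q : ℝ) ^ (n - 1) := by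
    have h1 : ∀ D ∈ n.divisors.erase 1, ((D.totient * tNum (sSU q) (n / D) : ℕ) : ℝ) ≤
        20 / 7 * ((D.totient * q ^ (n / 2) : ℕ) : ℝ) := by
      intro D hD
      simp only [mem_erase, Nat.mem_divisors] at hD
      have hD2 : 2 ≤ D := by
        rcases D with _ | _ | D
        · simp at hD
        · simp at hD
        · omega
      push_cast
      calc (D.totient : ℝ) * (tNum (sSU q) (n / D) : ℝ)
          ≤ (D.totient : ℝ) * ((1 + 1 / (q : ℝ)) * (q : ℝ) ^ (n / D) * pFac q (n / D)) :=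
            mul_le_mul_of_nonneg_left (tNum_le (by omega) _) (Nat.cast_nonneg _)
        _ ≤ (D.totient : ℝ) * ((4 / 3) * (q : ℝ) ^ (n / 2) * (15 / 7)) := by
            refine mul_le_mul_of_nonneg_left (mul_le_mul (mul_le_mul ?_ ?_ (by positivity) (by norm_num))
              (pFac_three_le hq _).1 (pFac_nonneg (by omega) _) (by positivity)) (Nat.cast_nonneg _)
            · have : 1 / (q : ℝ) ≤ 1 / 3 := one_div_le_one_div_of_le (by norm_num) hq'
              linarith
            · exact pow_le_pow_right₀ (by linarith) (Nat.div_le_div_left hD2 two_pos)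
        _ = _ := by ring
    calc (↑(∑ D ∈ (n.divisors.erase 1).filter (· ∣ q + 1), D.totient * tNum (sSU q) (n / D)) : ℝ)
        ≤ ↑(∑ D ∈ n.divisors.erase 1, D.totient * tNum (sSU q) (n / D)) := by
          exact_mod_cast sum_le_sum_of_subset (filter_subset _ _)
      _ ≤ 20 / 7 * ((∑ D ∈ n.divisors.erase 1, D.totient * q ^ (n / 2) : ℕ) : ℝ) := by
          rw [Nat.cast_sum, Nat.cast_sum, mul_sum]; exact sum_le_sum h1
      _ ≤ 20 / 7 * (q : ℝ) ^ (n - 1) := by
          refine mul_le_mul_of_nonneg_left ?_ (by norm_num)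
          have h := Nat.sum_totient n
          rw [← add_sum_erase _ _ (Nat.one_mem_divisors.2 (by omega : n ≠ 0)), Nat.totient_one] at h
          rw [← sum_mul, show ∑ D ∈ n.divisors.erase 1, D.totient = n - 1 by omega]
          exact_mod_cast sub_one_mul_pow_le hq hn
  have hx := sum_x_le (q := q) (by omega) n n
  rw [sum_range_succ] at hx
  obtain ⟨hA, hA'⟩ := pFac_three_le (q := q) hq n
  have hxn : xTerm q n n ≤ pFac q n - 1 := by
    have h0 : xTerm q n 0 = 1 := by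
      have h1 : ∀ K, mNum (sSU q) K 0 = 1 := by
        intro K
        induction K with
        | zero => simp [mNum]
        | succ K ih =>
          rcases K with _ | K
          · simp [mNum]
          · rw [mNum]; simp [sSU, ih]
      simp [xTerm, h1]
    have := single_le_sum (f := fun j => xTerm q n j) (fun j _ => xTerm_nonneg n j)
      (mem_range.2 (show 0 < n by omega))
    rw [h0] at this
    linarith
  have hmain : (∑ j ∈ range n, xTerm q n j) + (q : ℝ) * xTerm q n n ≤ 31 / 7 := by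
    nlinarith [xTerm_nonneg (q := q) n n]
  have h := main_eq (q := q) (by omega) (show 1 ≤ n by omega)
  have hp : (0 : ℝ) ≤ (q : ℝ) ^ (n - 1) := by positivity
  have := mul_le_mul_of_nonneg_left hmain hp
  rw [← Nat.cast_le (α := ℝ), Nat.cast_mul, Nat.cast_add, h, Nat.cast_mul, Nat.cast_pow]
  push_cast at hD ⊢
  linarith

theorem num_bound_two_small : ∀ n ∈ Icc 2 6,
    100 * ((∑ d ∈ Icc 1 n, 2 ^ (d - 1) * mNum (sSU 2) n (n - d)) + mNum (sSU 2) n n +
      ∑ D ∈ (n.divisors.erase 1).filter (· ∣ 2 + 1), D.totient * tNum (sSU 2) (n / D)) ≤ 826 * 2 ^ (n - 1) := by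
  decide +kernel

theorem num_bound_two {n : ℕ} (hn : 7 ≤ n) :
    100 * ((∑ d ∈ Icc 1 n, 2 ^ (d - 1) * mNum (sSU 2) n (n - d)) + mNum (sSU 2) n n +
      ∑ D ∈ (n.divisors.erase 1).filter (· ∣ 2 + 1), D.totient * tNum (sSU 2) (n / D)) ≤ 826 * 2 ^ (n - 1) := by
  have hL : (113 / 32 : ℝ) ≤ ∑ j ∈ range 7, xTerm 2 n j := by
    refine le_trans (le_of_eq ?_) (sum_le_sum (f := fun j => xTerm 2 6 j) fun j _ => ?_)
    · have h : ∀ j ∈ range 7, mNum (sSU 2) 6 j = [1, 0, 3, 3, 9, 12, 30].getD j 0 := by decide +kernel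
      rw [sum_congr rfl fun j hj => show xTerm 2 6 j = (([1, 0, 3, 3, 9, 12, 30].getD j 0 : ℕ) : ℝ) / 2 ^ j by
        rw [xTerm, h j hj]; norm_num]
      norm_num [sum_range_succ]
    · exact div_le_div_of_nonneg_right (by exact_mod_cast mNum_mono (sSU 2) rfl j (show 6 ≤ n by omega))
        (by positivity)
  have hx := (sum_x_le (q := 2) le_rfl n n).trans (pFac_two n)
  rw [sum_range_succ] at hx
  have hsub : ∑ j ∈ range 7, xTerm 2 n j ≤ ∑ j ∈ range n, xTerm 2 n j :=
    sum_le_sum_of_subset_of_nonneg (range_subset_range.2 (by omega)) fun j _ _ => xTerm_nonneg n j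
  have hD : (↑(∑ D ∈ (n.divisors.erase 1).filter (· ∣ 2 + 1), D.totient * tNum (sSU 2) (n / D)) : ℝ) ≤
      1653 / 3200 * (2 : ℝ) ^ (n - 1) := by
    have hsub : (n.divisors.erase 1).filter (· ∣ 2 + 1) ⊆ if 3 ∣ n then {3} else ∅ := by
      intro D hD
      simp only [mem_filter, mem_erase, Nat.mem_divisors] at hD
      obtain rfl : D = 3 := (Nat.prime_three.eq_one_or_self_of_dvd D hD.2).resolve_left hD.1.1
      rw [if_pos hD.1.2.1]
      simp
    refine (Nat.cast_le.2 (sum_le_sum_of_subset hsub)).trans ?_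
    split_ifs with h3
    · rw [sum_singleton, show Nat.totient 3 = 2 by decide +kernel]
      push_cast
      refine (mul_le_mul_of_nonneg_left (tNum_le le_rfl _) two_pos.le).trans ?_
      push_cast
      have h5 : (2 : ℝ) ^ (n / 3) * 32 ≤ 2 ^ (n - 1) := by
        rw [show (32 : ℝ) = 2 ^ 5 by norm_num, ← pow_add]
        exact pow_le_pow_right₀ one_le_two (by omega)
      have h6 := mul_le_mul_of_nonneg_left (pFac_two (n / 3)) (show (0 : ℝ) ≤ 2 * ((1 + 1 / 2) * 2 ^ (n / 3)) by positivity)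
      linarith
    · simp
  have h := main_eq (q := 2) (by norm_num) (show 1 ≤ n by omega)
  have hmain : (∑ j ∈ range n, xTerm 2 n j) + 2 * xTerm 2 n n ≤ 2 * (551 / 100) - 113 / 32 := by linarith
  have hp : (0 : ℝ) ≤ (2 : ℝ) ^ (n - 1) := by positivity
  have := mul_le_mul_of_nonneg_left hmain hp
  rw [← Nat.cast_le (α := ℝ), Nat.cast_mul, Nat.cast_add, h, Nat.cast_mul, Nat.cast_pow]
  push_cast at hD ⊢
  linarith

theorem num_bound (hq : 2 ≤ q) {n : ℕ} (hn : 2 ≤ n) :
    100 * ((∑ d ∈ Icc 1 n, q ^ (d - 1) * mNum (sSU q) n (n - d)) + mNum (sSU q) n n +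
      ∑ D ∈ (n.divisors.erase 1).filter (· ∣ q + 1), D.totient * tNum (sSU q) (n / D)) ≤ 826 * q ^ (n - 1) := by
  rcases Nat.lt_or_ge q 3 with h | h
  · obtain rfl : q = 2 := by omega
    rcases Nat.lt_or_ge n 7 with hn7 | hn7
    · exact num_bound_two_small n (mem_Icc.2 ⟨hn, by omega⟩)
    · exact num_bound_two hn7
  · exact num_bound_three h hn

open Polynomial in
theorem card_classes_SU_bound {F : Type u} [Field F] [Fintype F] (n q : ℕ) (hn : 2 ≤ n)
    (hF : Fintype.card F = q ^ 2) :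
    100 * Nat.card (ConjClasses ↥(Cfsg.SU n F q)) ≤ 826 * q ^ (n - 1) := by
  classical
  obtain ⟨hadd, hsq, hq, θ, hθ⟩ := Forms59.card_sq_facts hF
  letI : StarRing F := Forms59.starRingOfCard hF
  have hs : ∀ x : F, star x = x ^ q := fun x => rfl
  have hθ' : star θ ≠ θ := hθ
  set σ := starRingEnd F with hσdef
  have hfix : ∀ d, 1 ≤ d → ∀ a : F,
      Nat.card {P : SDPoly σ d // (P : F[X]).coeff 0 = a} ≤ q ^ (d - 1) := by
    intro d hd a
    rcases isEmpty_or_nonempty {P : SDPoly σ d // (P : F[X]).coeff 0 = a} with h | ⟨⟨P0⟩⟩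
    · simp
    obtain ⟨m, rfl⟩ : ∃ m, d = m + 1 := ⟨d - 1, by omega⟩
    have ha : a * star a = 1 := by
      have h := congrArg (fun P : F[X] => P.coeff 0) P0.1.2.2.2.2
      rw [coeff_zero_dual _ P0.1.2.1, P0.2] at h
      have ha0 : σ a ≠ 0 := (map_ne_zero σ).mpr (P0.2 ▸ P0.1.2.2.2.1)
      calc a * star a = (σ a)⁻¹ * σ a := by rw [h]; rfl
        _ = 1 := inv_mul_cancel₀ ha0
    have hc := card_selfDual θ hθ' (m := m) ha
    rw [hF, ← pow_mul, mul_comm, pow_mul] at hc
    have hc' := Nat.pow_left_injective two_ne_zero hc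
    haveI : Finite {P : F[X] // P.Monic ∧ P.natDegree = m + 1 ∧ P.coeff 0 = a ∧ dual σ P = P} :=
      Nat.finite_of_card_ne_zero (by rw [hc']; exact pow_ne_zero _ (by omega))
    rw [Nat.add_sub_cancel, ← hc']
    exact Nat.card_le_card_of_injective
      (fun P => ⟨P.1.1, P.1.2.1, P.1.2.2.1, P.2, P.1.2.2.2.2⟩)
      fun P Q h => Subtype.ext (Subtype.ext (congrArg Subtype.val h :))
  have hpoly : ∀ e, Nat.card (SDPoly σ e) ≤ sSU q e := by
    intro e
    rcases Nat.eq_zero_or_pos e with rfl | he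
    · exact Finite.card_le_one_iff_subsingleton.2 ⟨fun a b => Subtype.ext (by
        rw [a.2.1.natDegree_eq_zero.1 a.2.2.1, b.2.1.natDegree_eq_zero.1 b.2.2.1])⟩
    · have hc : ∀ P : SDPoly σ e, Units.mk0 _ P.2.2.2.1 ∈ normOne F q := fun P => by
        rw [mem_normOne_iff hs, Units.val_mk0]
        have h := congrArg (fun P : F[X] => P.coeff 0) P.2.2.2.2
        rw [coeff_zero_dual _ P.2.1] at h
        calc (P : F[X]).coeff 0 * star ((P : F[X]).coeff 0)
            = (σ ((P : F[X]).coeff 0))⁻¹ * σ ((P : F[X]).coeff 0) := by rw [h]; rfl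
          _ = 1 := inv_mul_cancel₀ ((map_ne_zero σ).mpr P.2.2.2.1)
      let f : SDPoly σ e → Σ c : normOne F q, {P : SDPoly σ e // (P : F[X]).coeff 0 = ((c : Fˣ) : F)} :=
        fun P => ⟨⟨_, hc P⟩, P, rfl⟩
      refine (Nat.card_le_card_of_injective f fun P Q h =>
        congrArg (fun x : Σ c : normOne F q, {P : SDPoly σ e // (P : F[X]).coeff 0 = ((c : Fˣ) : F)} => x.2.1) h).trans ?_
      rw [Nat.card_sigma]
      refine (sum_le_card_nsmul _ _ (q ^ (e - 1)) fun c _ => hfix e he _).trans ?_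
      rw [smul_eq_mul, Finset.card_univ, ← Nat.card_eq_fintype_card, card_normOne hF, sSU, if_neg he.ne']
  haveI := Fintype.ofFinite (DetU σ n)
  have h1 := (card_classes_SU_le hs hF n).trans (sum_weightU_le hpoly q (by omega))
  have h2 := card_detU_le hpoly hfix (show 0 < n by omega)
  exact (Nat.mul_le_mul_left 100 (h1.trans (Nat.add_le_add_right h2 _))).trans (num_bound (by omega) hn)

end Cfsg.Agent.CN9
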