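import Cfsg.Agent.ClassNum9.UnitaryData
import Cfsg.Agent.ClassBound.SLClasses
import Cfsg.Agent.Lib.GLSemisimple.SUClasses

/-!
Classes of `SU_n(q)` inject into weighted self-dual tuples.
-/

set_option autoImplicit false

namespace Cfsg.Agent.CN9

open Polynomial Matrix Module Cfsg.Agent.GLSemi Cfsg.Agent.ClassBound

universe u

variable {F : Type u} [Field F]

/-- self-dual tuples -/
def SDTup (σ : F →+* F) (K m : ℕ) : Set (Fin K → F[X]) :=
  {t | t ∈ TupSet F K m ∧ ∀ k, dual σ (t k) = t k}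

/-- self-dual tuples of matrices of determinant one -/
def DetU (σ : F →+* F) (n : ℕ) : Set (Fin n → F[X]) :=
  {t | t ∈ SDTup σ n n ∧ constProd t = (-1) ^ n}

theorem dual_multiset_prod (σ : F →+* F) (s : Multiset F[X]) : dual σ s.prod = (s.map (dual σ)).prod := by
  induction s using Multiset.induction_on with
  | empty => simp [dual_one]
  | cons f t ih => rw [Multiset.prod_cons, dual_mul, ih, Multiset.map_cons, Multiset.prod_cons]

theorem tupOf_dual {σ : F →+* F} {n : ℕ} {s : Multiset (F[X] × ℕ)} (h : dualData σ s = s) (k : Fin n) :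
    dual σ (tupOf n s k) = tupOf n s k := by
  classical
  simp only [tupOf]
  conv_rhs => rw [← h]
  rw [dual_multiset_prod, dualData, Multiset.filter_map, Multiset.map_map, Multiset.map_map]
  rfl

variable [Fintype F]

instance finite_sdTup (σ : F →+* F) (K m : ℕ) : Finite (SDTup σ K m) :=
  haveI := (tup_bound (F := F) K m).1
  Finite.of_injective (fun t : SDTup σ K m => (⟨t.1, t.2.1⟩ : TupSet F K m))
    fun _ _ h => Subtype.ext (by simpa using h)

instance finite_detU (σ : F →+* F) (n : ℕ) : Finite (DetU σ n) :=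
  Finite.of_injective (fun t : DetU σ n => (⟨t.1, t.2.1⟩ : SDTup σ n n))
    fun _ _ h => Subtype.ext (by simpa using h)

/-- the weight of a tuple for the unitary groups -/
noncomputable def weightU (q : ℕ) {n : ℕ} (t : Fin n → F[X]) : ℕ := by
  classical
  exact Nat.gcd (q + 1) ((Finset.univ.filter fun k => 0 < (t k).natDegree).gcd fun k => (k : ℕ) + 1)

/-- units of norm one -/
def normOne (F : Type u) [Field F] (q : ℕ) : Subgroup Fˣ := (powMonoidHom (q + 1) : Fˣ →* Fˣ).ker

omit [Fintype F] in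
theorem mem_normOne_iff {q : ℕ} [StarRing F] (hs : ∀ x : F, star x = x ^ q) (c : Fˣ) :
    c ∈ normOne F q ↔ (c : F) * star (c : F) = 1 := by
  rw [normOne, MonoidHom.mem_ker, powMonoidHom_apply, hs, ← pow_succ', Units.ext_iff,
    Units.val_pow_eq_pow_val, Units.val_one]

theorem card_normOne {q : ℕ} (hF : Fintype.card F = q ^ 2) : Nat.card (normOne F q) = q + 1 := by
  have hq : 1 ≤ q := by
    rcases Nat.eq_zero_or_pos q with rfl | h
    · simp at hF
    · exact h
  classical
  rw [normOne, IsCyclic.card_powMonoidHom_ker, Nat.card_eq_fintype_card, Fintype.card_units, hF,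
    Nat.gcd_eq_right]
  refine ⟨q - 1, ?_⟩
  obtain ⟨r, rfl⟩ : ∃ r, q = r + 1 := ⟨q - 1, by omega⟩
  rw [show (r + 1) ^ 2 = r * r + 2 * r + 1 by ring, Nat.add_sub_cancel, Nat.add_sub_cancel]
  ring

theorem card_normOne_quot {q : ℕ} (hF : Fintype.card F = q ^ 2) {w : ℕ} (hw : w ∣ q + 1) :
    Nat.card (normOne F q ⧸ (powMonoidHom w : normOne F q →* normOne F q).range) = w := by
  rw [← Subgroup.index_eq_card, IsCyclic.index_powMonoidHom_range, card_normOne hF, Nat.gcd_eq_right hw]

theorem exists_class_injection_SU {q : ℕ} [StarRing F] (hs : ∀ x : F, star x = x ^ q)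
    (hF : Fintype.card F = q ^ 2) (n : ℕ) :
    ∃ Φ : ConjClasses ↥(Cfsg.SU n F q) → Σ t : DetU (starRingEnd F) n,
      normOne F q ⧸ (powMonoidHom (weightU q t.1) : normOne F q →* normOne F q).range,
      Function.Injective Φ := by
  classical
  let toU : ↥(Cfsg.SU n F q) → ↥(Cfsg.GU n F q) := fun g =>
    ⟨Matrix.SpecialLinearGroup.toGL g.1, g.2⟩
  have toU_mul : ∀ a b, toU (a * b) = toU a * toU b := fun a b => Subtype.ext (Units.ext rfl)
  have toU_inj : Function.Injective toU := fun a b h =>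
    Subtype.ext (Subtype.ext (congrArg (fun x : ↥(Cfsg.GU n F q) => ((x : GL (Fin n) F) : Matrix (Fin n) (Fin n) F)) h))
  let dh : ↥(Cfsg.GU n F q) →* Fˣ := Matrix.GeneralLinearGroup.det.comp (Cfsg.GU n F q).subtype
  have hdh : ∀ x, dh x ∈ normOne F q := by
    intro x
    rw [mem_normOne_iff hs]
    have hU := (Forms59.mem_GU_iff_conjTranspose hs (x : GL (Fin n) F)).1 x.2
    have h := congrArg Matrix.det hU
    rw [Matrix.det_mul, Matrix.det_conjTranspose, Matrix.det_one, mul_comm] at h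
    exact h
  choose S hS1 hS2 hS3 hS4 using fun g : ↥(Cfsg.SU n F q) => data_spec (toU g : GL (Fin n) F)
  have hR : ∀ g, Realizes (((toU g) : GL (Fin n) F) : Matrix (Fin n) (Fin n) F) (S g) := fun g =>
    realizes_of_hasDivData (hS1 g) (hS2 g)
  let T : ↥(Cfsg.SU n F q) → DetU (starRingEnd F) n := fun g =>
    ⟨tupOf n (S g), ⟨tupOf_mem (hS1 g), tupOf_dual (gu_dualData hs (toU g) (hS1 g) (hR g))⟩, by
      rw [hS3]
      show _ * (g.1 : Matrix (Fin n) (Fin n) F).det = _
      rw [g.1.2, mul_one]⟩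
  let r : DetU (starRingEnd F) n → ↥(Cfsg.SU n F q) := fun t => if h : ∃ g, T g = t then h.choose else 1
  have hr : ∀ g, T (r (T g)) = T g := fun g => by
    have h : ∃ g', T g' = T g := ⟨g, rfl⟩
    simp only [r, dif_pos h]
    exact h.choose_spec
  have hconj : ∀ g, ∃ x : ↥(Cfsg.GU n F q), x * toU (r (T g)) * x⁻¹ = toU g := by
    intro g
    have hSS : S (r (T g)) = S g := tupOf_injOn (hS1 _) (hS1 _) (congrArg Subtype.val (hr g))
    exact isConj_iff.1 ((Forms59.gu_isConj_iff hF _ _).2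
      (isConj_of_divData (hS2 _) (hSS ▸ hS2 g)))
  choose x hx using hconj
  let out : ConjClasses ↥(Cfsg.SU n F q) → ↥(Cfsg.SU n F q) := fun C => Quotient.out C
  refine ⟨fun C => ⟨T (out C), QuotientGroup.mk ⟨dh (x (out C)), hdh _⟩⟩, ?_⟩
  suffices key : ∀ g g',
      (⟨T g, QuotientGroup.mk ⟨dh (x g), hdh _⟩⟩ : Σ t : DetU (starRingEnd F) n,
        normOne F q ⧸ (powMonoidHom (weightU q t.1) : normOne F q →* normOne F q).range) =
        ⟨T g', QuotientGroup.mk ⟨dh (x g'), hdh _⟩⟩ →
      ConjClasses.mk g' = ConjClasses.mk g by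
    intro C C' h
    exact (Quotient.out_eq C).symm.trans ((key (out C) (out C') h).symm.trans (Quotient.out_eq C'))
  intro g g' h
  rw [Sigma.mk.injEq] at h
  obtain ⟨hT, hq⟩ := h
  have hmem : (⟨dh (x g), hdh _⟩ : normOne F q)⁻¹ * ⟨dh (x g'), hdh _⟩ ∈
      (powMonoidHom (weightU q (T g).1) : normOne F q →* normOne F q).range := by
    refine QuotientGroup.eq.1 ?_
    have hgen : ∀ (t t' : DetU (starRingEnd F) n) (a b : normOne F q), t = t' →
        HEq (QuotientGroup.mk a : normOne F q ⧸ (powMonoidHom (weightU q t.1) : normOne F q →* normOne F q).range)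
          (QuotientGroup.mk b : normOne F q ⧸ (powMonoidHom (weightU q t'.1) : normOne F q →* normOne F q).range) →
        (QuotientGroup.mk a : normOne F q ⧸ (powMonoidHom (weightU q t.1) : normOne F q →* normOne F q).range) =
          QuotientGroup.mk b := by
      rintro t t' a b rfl h
      exact eq_of_heq h
    exact hgen _ _ _ _ hT hq
  obtain ⟨c, hc⟩ := hmem
  have hc' := congrArg Subtype.val hc
  simp only [powMonoidHom_apply, Subgroup.coe_pow, Subgroup.coe_mul, Subgroup.coe_inv] at hc'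
  set R := r (T g) with hR'
  have hwR : weightU q (T g).1 = weightU q (tupOf n (S R)) := (congrArg (fun t : DetU (starRingEnd F) n => weightU q t.1) (hr g)).symm
  let D : Subgroup Fˣ := (Subgroup.centralizer {toU R}).map dh
  have hgcd : ∀ a b : ℕ, (c : Fˣ) ^ a ∈ D → (c : Fˣ) ^ b ∈ D → (c : Fˣ) ^ Nat.gcd a b ∈ D := by
    intro a b ha hb
    rw [← zpow_natCast, Nat.gcd_eq_gcd_ab, _root_.zpow_add, _root_.zpow_mul, _root_.zpow_mul, zpow_natCast,
      zpow_natCast]
    exact mul_mem (zpow_mem ha _) (zpow_mem hb _)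
  have hd : (c : Fˣ) ^ weightU q (tupOf n (S R)) ∈ D := by
    unfold weightU
    refine hgcd _ _ ?_ ?_
    · have : (c : Fˣ) ^ (q + 1) = 1 := c.2
      rw [this]; exact one_mem _
    · suffices h' : ∀ K : Finset (Fin n), (∀ k ∈ K, 0 < (tupOf n (S R) k).natDegree) →
          (c : Fˣ) ^ (K.gcd fun k : Fin n => (k : ℕ) + 1) ∈ D from h' _ fun k hk => (Finset.mem_filter.1 hk).2
      intro K
      induction K using Finset.induction_on with
      | empty => intro _; rw [Finset.gcd_empty, pow_zero]; exact one_mem _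
      | insert k K _ ih =>
        intro hK
        rw [Finset.gcd_insert]
        refine hgcd _ _ ?_ (ih fun j hj => hK j (Finset.mem_insert_of_mem hj))
        obtain ⟨z, hz, hz2⟩ := exists_of_natDegree_pos (hK k (Finset.mem_insert_self _ _))
        obtain ⟨y, hy, hyd⟩ := exists_commute_det hs hF (toU R) (hS1 R) (hR R) hz
          ((mem_normOne_iff hs _).1 c.2)
        rw [← hz2]
        exact ⟨y, Subgroup.mem_centralizer_singleton_iff.2 hy, Units.ext (by
          rw [Units.val_pow_eq_pow_val]; exact hyd)⟩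
  rw [← hwR, hc'] at hd
  obtain ⟨z, hz, hzd⟩ := hd
  rw [SetLike.mem_coe, Subgroup.mem_centralizer_singleton_iff] at hz
  set y := x g * z * (x g')⁻¹ with hy
  have hdet : (((y : ↥(Cfsg.GU n F q)) : GL (Fin n) F) : Matrix (Fin n) (Fin n) F).det = 1 := by
    have : dh y = 1 := by rw [hy, map_mul, map_mul, map_inv, hzd, mul_inv_cancel_left, mul_inv_cancel]
    exact congrArg Units.val this
  let y' : ↥(Cfsg.SU n F q) := ⟨⟨((y : GL (Fin n) F) : Matrix (Fin n) (Fin n) F), hdet⟩, y.2⟩
  have hyy : toU y' = y := Subtype.ext (Units.ext rfl)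
  have hx' := hx g'
  rw [← hT, ← hR'] at hx'
  refine ConjClasses.mk_eq_mk_iff_isConj.2 (isConj_iff.2 ⟨y', toU_inj ?_⟩)
  let U := MonoidHom.mk' toU toU_mul
  show U (y' * g' * y'⁻¹) = U g
  rw [map_mul, map_mul, map_inv, show U y' = y from hyy]
  show y * toU g' * y⁻¹ = toU g
  rw [← hx g, ← hx', ← hR', hy]
  have e : z * toU R * z⁻¹ = toU R := by rw [hz, mul_inv_cancel_right]
  conv_rhs => rw [← e]
  group

/-- classes of `SU` are bounded by weighted self-dual tuples -/
theorem card_classes_SU_le {q : ℕ} [StarRing F] (hs : ∀ x : F, star x = x ^ q)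
    (hF : Fintype.card F = q ^ 2) (n : ℕ) [Fintype (DetU (starRingEnd F) n)] :
    Nat.card (ConjClasses ↥(Cfsg.SU n F q)) ≤ ∑ t : DetU (starRingEnd F) n, weightU q t.1 := by
  obtain ⟨Φ, hΦ⟩ := exists_class_injection_SU hs hF n
  refine (Nat.card_le_card_of_injective Φ hΦ).trans (le_of_eq ?_)
  rw [Nat.card_sigma]
  exact Finset.sum_congr rfl fun t _ => card_normOne_quot hF (Nat.gcd_dvd_left _ _)

end Cfsg.Agent.CN9
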