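import Cfsg.Agent.ClassNum9.TupleNum

/-!
The numeric bound behind `k(SU_n(q)) ≤ 8.26 q^(n-1)`.
-/

set_option autoImplicit false

namespace Cfsg.Agent.CN9

open Finset

/-- self-dual polynomials of given degree for the unitary groups -/
def sSU (q e : ℕ) : ℕ := if e = 0 then 1 else (q + 1) * q ^ (e - 1)

/-- the scaled term -/
noncomputable def xTerm (q K j : ℕ) : ℝ := (mNum (sSU q) K j : ℝ) / (q : ℝ) ^ j

/-- the scaled factor -/
noncomputable def fFac (q i : ℕ) : ℝ := (1 + (1 / (q : ℝ)) ^ i) / (1 - (q : ℝ) * (1 / (q : ℝ)) ^ i)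

/-- the product of the scaled factors -/
noncomputable def pFac (q K : ℕ) : ℝ := ∏ i ∈ Icc 2 K, fFac q i

variable {q : ℕ}

theorem qz_lt_one (hq : 2 ≤ q) {i : ℕ} (hi : 2 ≤ i) :
    (q : ℝ) * (1 / (q : ℝ)) ^ i ≤ 1 / 2 := by
  have hq' : (2 : ℝ) ≤ q := by exact_mod_cast hq
  obtain ⟨j, rfl⟩ : ∃ j, i = j + 2 := ⟨i - 2, by omega⟩
  have h1 : (1 / (q : ℝ)) ^ (j + 1) ≤ 1 / (q : ℝ) := by
    calc (1 / (q : ℝ)) ^ (j + 1) ≤ (1 / (q : ℝ)) ^ 1 :=
          pow_le_pow_of_le_one (by positivity) (by rw [div_le_one (by linarith)]; linarith) (by omega)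
      _ = _ := pow_one _
  calc (q : ℝ) * (1 / (q : ℝ)) ^ (j + 2) = (1 / (q : ℝ)) ^ (j + 1) := by
        rw [show j + 2 = j + 1 + 1 from rfl, pow_succ']; field_simp
    _ ≤ 1 / (q : ℝ) := h1
    _ ≤ 1 / 2 := one_div_le_one_div_of_le two_pos hq'

theorem fFac_nonneg (hq : 2 ≤ q) {i : ℕ} (hi : 2 ≤ i) : 0 ≤ fFac q i := by
  have := qz_lt_one hq hi
  exact div_nonneg (by positivity) (by linarith)

theorem pFac_nonneg (hq : 2 ≤ q) (K : ℕ) : 0 ≤ pFac q K :=
  prod_nonneg fun i hi => fFac_nonneg hq (mem_Icc.1 hi).1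

theorem xTerm_nonneg (K j : ℕ) : 0 ≤ xTerm q K j := by unfold xTerm; positivity

theorem sum_x_le (hq : 2 ≤ q) : ∀ K N, ∑ j ∈ range (N + 1), xTerm q K j ≤ pFac q K := by
  have hq0 : (0 : ℝ) < q := by exact_mod_cast (by omega : 0 < q)
  intro K
  induction K with
  | zero =>
    intro N
    simp [xTerm, mNum, pFac, sum_range_succ']
  | succ K ih =>
    intro N
    rcases K with _ | K
    · simp [xTerm, mNum, pFac, sum_range_succ']
    set k := K + 2 with hk
    set y : ℝ := (q : ℝ) * (1 / (q : ℝ)) ^ k with hy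
    have hy0 : 0 ≤ y := by positivity
    have hy1 : y ≤ 1 / 2 := qz_lt_one hq (by omega)
    let a : ℕ → ℝ := fun e => (sSU q e : ℝ) / (q : ℝ) ^ (k * e)
    have hterm : ∀ j ∈ range (N + 1), xTerm q (K + 2) j =
        ∑ e ∈ range (N + 1), if k * e ≤ j then a e * xTerm q (K + 1) (j - k * e) else 0 := by
      intro j hj
      rw [mem_range] at hj
      rw [← sum_filter]
      have hset : (range (N + 1)).filter (fun e => k * e ≤ j) = range (j / k + 1) := by
        ext e
        simp only [mem_filter, mem_range, Nat.lt_succ_iff, Nat.le_div_iff_mul_le (show 0 < k by omega), mul_comm e k]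
        refine ⟨fun h => h.2, fun h => ⟨?_, h⟩⟩
        have := Nat.le_mul_of_pos_left e (show 0 < k by omega)
        omega
      rw [hset, xTerm, mNum, Nat.cast_sum, sum_div]
      refine sum_congr rfl fun e he => ?_
      have hle : k * e ≤ j := by
        rw [mem_range, Nat.lt_succ_iff, Nat.le_div_iff_mul_le (show 0 < k by omega), mul_comm] at he
        exact he
      simp only [a, xTerm, Nat.cast_mul]
      rw [div_mul_div_comm, ← pow_add, Nat.add_sub_cancel' hle]
    rw [sum_congr rfl hterm, sum_comm]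
    have hinner : ∀ e ∈ range (N + 1),
        ∑ j ∈ range (N + 1), (if k * e ≤ j then a e * xTerm q (K + 1) (j - k * e) else 0) ≤ a e * pFac q (K + 1) := by
      intro e _
      rw [← sum_filter, ← mul_sum]
      refine mul_le_mul_of_nonneg_left (le_trans ?_ (ih N)) (by positivity)
      rw [← sum_image (g := fun j => j - k * e) (f := fun i => xTerm q (K + 1) i) (fun u hu v hv huv => by
        simp only [mem_coe, mem_filter] at hu hv
        simp only at huv
        omega)]
      refine sum_le_sum_of_subset_of_nonneg (fun i hi => ?_) fun i _ _ => xTerm_nonneg _ _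
      obtain ⟨j, hj, rfl⟩ := mem_image.1 hi
      simp only [mem_filter, mem_range] at hj ⊢
      omega
    refine (sum_le_sum hinner).trans ?_
    rw [← sum_mul]
    have ha : ∑ e ∈ range (N + 1), a e ≤ fFac q k := by
      have he : ∀ e, a (e + 1) = (1 + 1 / (q : ℝ)) * (y * y ^ e) := by
        intro e
        simp only [a, sSU, Nat.succ_ne_zero, if_false, Nat.add_sub_cancel, Nat.cast_mul, Nat.cast_add, Nat.cast_one,
          Nat.cast_pow, hy, mul_pow, ← pow_mul, one_div, inv_pow]
        field_simp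
        rw [mul_add k e 1, mul_one, pow_add]
        ring
      rw [sum_range_succ', show a 0 = 1 by simp [a, sSU], sum_congr rfl fun e _ => he e, ← mul_sum, ← mul_sum]
      have hg : ∑ e ∈ range N, y ^ e ≤ 1 / (1 - y) := by
        rw [le_div_iff₀ (by linarith), geom_sum_mul_neg]
        linarith [pow_nonneg hy0 N]
      have h2 : (1 + 1 / (q : ℝ)) * (y * ∑ e ∈ range N, y ^ e) ≤ (1 + 1 / (q : ℝ)) * (y * (1 / (1 - y))) :=
        mul_le_mul_of_nonneg_left (mul_le_mul_of_nonneg_left hg hy0) (by positivity)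
      have h3 : (1 + 1 / (q : ℝ)) * (y * (1 / (1 - y))) + 1 = fFac q k := by
        rw [fFac, ← hy, hy]
        have : (1 : ℝ) - y ≠ 0 := by linarith
        rw [← hy]
        field_simp
        rw [hy]
        field_simp
        ring
      linarith
    refine (mul_le_mul_of_nonneg_right ha (pFac_nonneg hq _)).trans (le_of_eq ?_)
    rw [pFac, pFac, prod_Icc_succ_top (show 2 ≤ K + 1 + 1 by omega), mul_comm]

theorem tail_prod_le (hq : 2 ≤ q) {a : ℕ} (ha : 2 ≤ a)
    (hc : ((q : ℝ) + 1) * (q : ℝ) / ((q : ℝ) - 1) * (1 / (q : ℝ)) ^ a < 1) (K : ℕ) :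
    ∏ i ∈ Ico a K, fFac q i ≤ 1 / (1 - ((q : ℝ) + 1) * (q : ℝ) / ((q : ℝ) - 1) * (1 / (q : ℝ)) ^ a) := by
  have hq' : (2 : ℝ) ≤ q := by exact_mod_cast hq
  set c : ℝ := ((q : ℝ) + 1) * (q : ℝ) / ((q : ℝ) - 1) with hcdef
  have hc0 : 0 ≤ c := div_nonneg (by positivity) (by linarith)
  set z : ℕ → ℝ := fun i => (1 / (q : ℝ)) ^ i with hz
  rcases Nat.lt_or_ge K a with hK | hK
  · rw [Ico_eq_empty (by omega), prod_empty, le_div_iff₀ (by linarith)]
    have : 0 ≤ c * (1 / (q : ℝ)) ^ a := by positivity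
    linarith
  have key : ∀ K, a ≤ K → (∏ i ∈ Ico a K, fFac q i) * (1 - c * (z a - z K)) ≤ 1 ∧
      0 ≤ ∏ i ∈ Ico a K, fFac q i := by
    intro K hK
    induction K, hK using Nat.le_induction with
    | base => simp
    | succ K hK ih =>
      refine ⟨?_, prod_nonneg fun i hi => fFac_nonneg hq (by simp at hi; omega)⟩
      rw [prod_Ico_succ_top hK]
      set v : ℝ := ((q : ℝ) + 1) * z K with hv
      have hdiff : c * (z a - z (K + 1)) = c * (z a - z K) + v := by
        have h1 : z (K + 1) = z K * (1 / (q : ℝ)) := pow_succ _ _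
        rw [h1, hv, hcdef]
        have : (q : ℝ) - 1 ≠ 0 := by linarith
        field_simp
        ring
      have hzK : 0 ≤ z K := by positivity
      have hf : fFac q K * (1 - v) ≤ 1 := by
        have hy := qz_lt_one hq (show 2 ≤ K by omega)
        rw [fFac, div_mul_eq_mul_div, div_le_one (by linarith)]
        show (1 + z K) * (1 - v) ≤ 1 - (q : ℝ) * z K
        rw [hv]
        have : 0 ≤ ((q : ℝ) + 1) * (z K * z K) := mul_nonneg (by linarith) (mul_nonneg hzK hzK)
        linarith [show (1 + z K) * (1 - ((q : ℝ) + 1) * z K) =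
          1 - (q : ℝ) * z K - ((q : ℝ) + 1) * (z K * z K) by ring]
      have hf0 := fFac_nonneg hq (show 2 ≤ K by omega)
      have hB1 : 1 - c * (z a - z K) ≤ 1 := by
        have : z K ≤ z a := pow_le_pow_of_le_one (by positivity)
          (by rw [div_le_one (by linarith)]; linarith) hK
        have := mul_nonneg hc0 (sub_nonneg.2 this)
        linarith
      have hv0 : 0 ≤ v := by positivity
      calc (∏ i ∈ Ico a K, fFac q i) * fFac q K * (1 - c * (z a - z (K + 1)))
          ≤ (∏ i ∈ Ico a K, fFac q i) * fFac q K * ((1 - c * (z a - z K)) * (1 - v)) := by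
            refine mul_le_mul_of_nonneg_left ?_ (mul_nonneg ih.2 hf0)
            rw [hdiff]
            nlinarith
        _ = ((∏ i ∈ Ico a K, fFac q i) * (1 - c * (z a - z K))) * (fFac q K * (1 - v)) := by ring
        _ ≤ 1 := by
          have h1 : 0 ≤ 1 - c * (z a - z K) := by
            have h2 : 0 ≤ c * z K := by positivity
            have h3 : c * z a < 1 := hc
            linarith [mul_sub c (z a) (z K)]
          refine le_trans (mul_le_mul_of_nonneg_left hf (mul_nonneg ih.2 h1)) ?_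
          rw [mul_one]
          exact ih.1
  obtain ⟨h1, h0⟩ := key K hK
  rw [le_div_iff₀ (by linarith)]
  refine le_trans (mul_le_mul_of_nonneg_left ?_ h0) h1
  have : 0 ≤ c * z K := by positivity
  show 1 - c * z a ≤ _
  linarith [mul_sub c (z a) (z K)]

end Cfsg.Agent.CN9
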