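import Cfsg.Agent.ClassNum9.SUInjection

/-!
Numeric bounds for the numbers of self-dual tuples, in terms of the numbers of self-dual polynomials.
-/

set_option autoImplicit false

namespace Cfsg.Agent.CN9

open Polynomial Finset Cfsg.Agent.GLSemi Cfsg.Agent.ClassBound

universe u

/-- recursion for tuples without simple part -/
def mNum (s : ℕ → ℕ) : ℕ → ℕ → ℕ
  | 0, m => if m = 0 then 1 else 0
  | 1, m => if m = 0 then 1 else 0
  | (K + 2), m => ∑ e ∈ range (m / (K + 2) + 1), s e * mNum s (K + 1) (m - (K + 2) * e)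

/-- bound for all tuples -/
def tNum (s : ℕ → ℕ) (n : ℕ) : ℕ := ∑ d ∈ range (n + 1), s d * mNum s n (n - d)

variable {F : Type u} [Field F]

/-- self-dual polynomials -/
def SDPoly (σ : F →+* F) (e : ℕ) : Set F[X] :=
  {P | P.Monic ∧ P.natDegree = e ∧ P.coeff 0 ≠ 0 ∧ dual σ P = P}

/-- self-dual tuples without simple part -/
def SDNoOnes (σ : F →+* F) (K m : ℕ) : Set (Fin K → F[X]) :=
  {t | t ∈ SDTup σ K m ∧ ∀ i : Fin K, (i : ℕ) = 0 → (t i).natDegree = 0}

variable [Fintype F]

instance finite_sdPoly (σ : F →+* F) (e : ℕ) : Finite (SDPoly σ e) :=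
  Finite.of_injective (fun P : SDPoly σ e => fun i : Fin (e + 1) => P.1.coeff i) fun P Q h =>
    Subtype.ext (Polynomial.ext fun i => by
      by_cases hi : i < e + 1
      · exact congrFun h ⟨i, hi⟩
      · rw [coeff_eq_zero_of_natDegree_lt (by rw [P.2.2.1]; omega),
          coeff_eq_zero_of_natDegree_lt (by rw [Q.2.2.1]; omega)])

instance finite_sdNoOnes (σ : F →+* F) (K m : ℕ) : Finite (SDNoOnes σ K m) :=
  Finite.of_injective (fun t : SDNoOnes σ K m => (⟨t.1, t.2.1⟩ : SDTup σ K m))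
    fun _ _ h => Subtype.ext (by simpa using h)

variable {σ : F →+* F} {s : ℕ → ℕ}

theorem card_sdNoOnes_le (hs : ∀ e, Nat.card (SDPoly σ e) ≤ s e) :
    ∀ K m, Nat.card (SDNoOnes σ K m) ≤ mNum s K m := by
  classical
  intro K
  induction K with
  | zero =>
    intro m
    rcases Nat.eq_zero_or_pos m with rfl | hm
    · exact Finite.card_le_one_iff_subsingleton.2 ⟨fun a b => Subtype.ext (funext fun i => i.elim0)⟩
    · haveI : IsEmpty (SDNoOnes σ 0 m) := ⟨fun t => by
        have := t.2.1.1.2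
        rw [Fin.sum_univ_zero] at this
        omega⟩
      rw [Nat.card_of_isEmpty]; exact Nat.zero_le _
  | succ K ih =>
    intro m
    rcases K with _ | K
    · rcases Nat.eq_zero_or_pos m with rfl | hm
      · exact Finite.card_le_one_iff_subsingleton.2 ⟨fun a b => Subtype.ext (funext fun i => by
          rw [Fin.eq_zero i, (a.2.1.1.1 0).1.natDegree_eq_zero.1 (a.2.2 0 rfl),
            (b.2.1.1.1 0).1.natDegree_eq_zero.1 (b.2.2 0 rfl)])⟩
      · haveI : IsEmpty (SDNoOnes σ 1 m) := ⟨fun t => by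
          have := t.2.1.1.2
          rw [Fin.sum_univ_one, t.2.2 0 rfl, mul_zero] at this
          omega⟩
        rw [Nat.card_of_isEmpty]; exact Nat.zero_le _
    · have hdeg : ∀ t : SDNoOnes σ (K + 2) m,
          ∑ i : Fin (K + 1), ((i : ℕ) + 1) * (t.1 i.castSucc).natDegree +
            (K + 2) * (t.1 (Fin.last _)).natDegree = m := by
        intro t
        have h := t.2.1.1.2
        rw [Fin.sum_univ_castSucc] at h
        simpa [add_assoc] using h
      have hlt : ∀ t : SDNoOnes σ (K + 2) m, (t.1 (Fin.last _)).natDegree < m / (K + 2) + 1 := fun t => by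
        rw [Nat.lt_succ_iff, Nat.le_div_iff_mul_le (show 0 < K + 2 by omega), mul_comm]
        have := hdeg t
        omega
      let f : SDNoOnes σ (K + 2) m → Σ e : Fin (m / (K + 2) + 1),
          SDPoly σ e × SDNoOnes σ (K + 1) (m - (K + 2) * e) := fun t =>
        ⟨⟨_, hlt t⟩, ⟨t.1 (Fin.last _), (t.2.1.1.1 _).1, rfl, (t.2.1.1.1 _).2, t.2.1.2 _⟩,
          ⟨fun i => t.1 i.castSucc, ⟨⟨fun i => t.2.1.1.1 _, by
            show ∑ i : Fin (K + 1), ((i : ℕ) + 1) * (t.1 i.castSucc).natDegree =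
              m - (K + 2) * (t.1 (Fin.last _)).natDegree
            have := hdeg t
            omega⟩, fun i => t.2.1.2 _⟩, fun i hi => t.2.2 _ (by simpa using hi)⟩⟩
      have hf : Function.Injective f := fun t u h => Subtype.ext (funext fun i => by
        cases i using Fin.lastCases with
        | last => exact congrArg (fun x : Σ e : Fin (m / (K + 2) + 1),
            SDPoly σ e × SDNoOnes σ (K + 1) (m - (K + 2) * e) => (x.2.1 : F[X])) h
        | cast i => exact congrArg (fun x : Σ e : Fin (m / (K + 2) + 1),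
            SDPoly σ e × SDNoOnes σ (K + 1) (m - (K + 2) * e) => x.2.2.1 i) h)
      refine (Nat.card_le_card_of_injective f hf).trans ?_
      rw [Nat.card_sigma, mNum, ← Fin.sum_univ_eq_sum_range
        (fun e => s e * mNum s (K + 1) (m - (K + 2) * e))]
      refine sum_le_sum fun e _ => ?_
      rw [Nat.card_prod]
      exact Nat.mul_le_mul (hs _) (ih _)

/-- separating the simple part -/
theorem split_first {n : ℕ} (hn : 0 < n) (t : SDTup σ n n) :
    (t.1 ⟨0, hn⟩).natDegree ≤ n ∧
      Function.update t.1 ⟨0, hn⟩ 1 ∈ SDNoOnes σ n (n - (t.1 ⟨0, hn⟩).natDegree) ∧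
      constProd (Function.update t.1 ⟨0, hn⟩ 1) * (t.1 ⟨0, hn⟩).coeff 0 = constProd t.1 := by
  classical
  set i0 : Fin n := ⟨0, hn⟩
  have hs := t.2.1.2
  rw [← add_sum_erase _ _ (mem_univ i0)] at hs
  simp only [i0, zero_add, one_mul] at hs
  simp only [i0] at *
  refine ⟨by omega, ⟨⟨⟨fun i => ?_, ?_⟩, fun i => ?_⟩, fun i hi => ?_⟩, ?_⟩
  · by_cases h : i = i0
    · subst h; rw [Function.update_self]; simp
    · rw [Function.update_of_ne h]; exact t.2.1.1 i
  · rw [← add_sum_erase _ _ (mem_univ i0), Function.update_self, natDegree_one, mul_zero, zero_add,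
      sum_congr rfl fun i hi => by rw [Function.update_of_ne (ne_of_mem_erase hi)]]
    simp only [i0]
    omega
  · by_cases h : i = i0
    · subst h; rw [Function.update_self]; exact dual_one σ
    · rw [Function.update_of_ne h]; exact t.2.2 i
  · rw [show i = i0 from Fin.ext hi, Function.update_self, natDegree_one]
  · simp only [constProd]
    rw [← mul_prod_erase univ _ (mem_univ i0), ← mul_prod_erase univ _ (mem_univ i0), Function.update_self,
      prod_congr rfl (g := fun k : Fin n => (t.1 k).coeff 0 ^ ((k : ℕ) + 1)) fun i hi => by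
        rw [Function.update_of_ne (ne_of_mem_erase hi)]]
    simp [i0]
    ring

theorem card_sdTup_le (hs : ∀ e, Nat.card (SDPoly σ e) ≤ s e) {n : ℕ} (hn : 0 < n) :
    Nat.card (SDTup σ n n) ≤ tNum s n := by
  classical
  let f : SDTup σ n n → Σ d : Fin (n + 1), SDPoly σ d × SDNoOnes σ n (n - d) := fun t =>
    ⟨⟨_, Nat.lt_succ_of_le (split_first hn t).1⟩,
      ⟨t.1 ⟨0, hn⟩, (t.2.1.1 _).1, rfl, (t.2.1.1 _).2, t.2.2 _⟩, ⟨_, (split_first hn t).2.1⟩⟩
  have hf : Function.Injective f := fun t u h => Subtype.ext (funext fun i => by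
    by_cases hi : i = ⟨0, hn⟩
    · subst hi
      exact congrArg (fun x : Σ d : Fin (n + 1), SDPoly σ d × SDNoOnes σ n (n - d) => (x.2.1 : F[X])) h
    · have h' := congrArg (fun x : Σ d : Fin (n + 1), SDPoly σ d × SDNoOnes σ n (n - d) => x.2.2.1 i) h
      simp only [f] at h'
      rwa [Function.update_of_ne hi, Function.update_of_ne hi] at h')
  refine (Nat.card_le_card_of_injective f hf).trans ?_
  rw [Nat.card_sigma, tNum, ← Fin.sum_univ_eq_sum_range (fun d => s d * mNum s n (n - d))]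
  refine sum_le_sum fun d _ => ?_
  rw [Nat.card_prod]
  exact Nat.mul_le_mul (hs _) (card_sdNoOnes_le hs _ _)

theorem card_detU_le (hs : ∀ e, Nat.card (SDPoly σ e) ≤ s e) {c : ℕ → ℕ}
    (hc : ∀ d, 1 ≤ d → ∀ a : F, Nat.card {P : SDPoly σ d // (P : F[X]).coeff 0 = a} ≤ c d) {n : ℕ}
    (hn : 0 < n) :
    Nat.card (DetU σ n) ≤ (∑ d ∈ Icc 1 n, c d * mNum s n (n - d)) + mNum s n n := by
  classical
  let g : ∀ d, SDNoOnes σ n (n - d) → Type u := fun d r =>
    {P : SDPoly σ d // constProd r.1 * (P : F[X]).coeff 0 = (-1) ^ n}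
  let f : DetU σ n → Σ d : Fin (n + 1), Σ r : SDNoOnes σ n (n - d), g d r := fun t =>
    ⟨⟨_, Nat.lt_succ_of_le (split_first hn ⟨t.1, t.2.1⟩).1⟩, ⟨_, (split_first hn ⟨t.1, t.2.1⟩).2.1⟩,
      ⟨⟨t.1 ⟨0, hn⟩, (t.2.1.1.1 _).1, rfl, (t.2.1.1.1 _).2, t.2.1.2 _⟩,
        (split_first hn ⟨t.1, t.2.1⟩).2.2.trans t.2.2⟩⟩
  have hf : Function.Injective f := fun t u h => Subtype.ext (funext fun i => by
    by_cases hi : i = ⟨0, hn⟩
    · subst hi
      exact congrArg (fun x : Σ d : Fin (n + 1), Σ r : SDNoOnes σ n (n - d), g d r => (x.2.2.1 : F[X])) h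
    · have h' := congrArg (fun x : Σ d : Fin (n + 1), Σ r : SDNoOnes σ n (n - d), g d r => x.2.1.1 i) h
      simp only [f] at h'
      rwa [Function.update_of_ne hi, Function.update_of_ne hi] at h')
  haveI : ∀ d r, Finite (g d r) := fun d r => by
    exact Finite.of_injective (fun x => x.1) Subtype.val_injective
  refine (Nat.card_le_card_of_injective f hf).trans ?_
  rw [Nat.card_sigma]
  let B : ℕ → ℕ := fun d => if d = 0 then mNum s n n else c d * mNum s n (n - d)
  have hB : ∀ d : Fin (n + 1), Nat.card (Σ r : SDNoOnes σ n (n - d), g d r) ≤ B d := by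
    rintro ⟨d, hd⟩
    haveI := Fintype.ofFinite (SDNoOnes σ n (n - d))
    rw [Nat.card_sigma]
    rcases Nat.eq_zero_or_pos d with rfl | hd0
    · refine le_trans (sum_le_card_nsmul _ _ 1 fun r _ => ?_) ?_
      · refine Finite.card_le_one_iff_subsingleton.2 ⟨fun a b => Subtype.ext (Subtype.ext ?_)⟩
        rw [a.1.2.1.natDegree_eq_zero.1 a.1.2.2.1, b.1.2.1.natDegree_eq_zero.1 b.1.2.2.1]
      · rw [smul_eq_mul, mul_one, Finset.card_univ, ← Nat.card_eq_fintype_card]
        simpa [B] using card_sdNoOnes_le hs n n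
    · refine le_trans (sum_le_card_nsmul _ _ (c d) fun r _ => ?_) ?_
      · have h0 : constProd r.1 ≠ 0 := prod_ne_zero_iff.2 fun i _ => pow_ne_zero _ (r.2.1.1.1 i).2
        refine le_trans (Nat.card_le_card_of_injective (fun P => (⟨P.1, ?_⟩ :
          {P : SDPoly σ d // (P : F[X]).coeff 0 = (-1) ^ n / constProd r.1})) ?_) (hc d hd0 _)
        · rw [eq_div_iff h0, mul_comm]; exact P.2
        · intro a b h; exact Subtype.ext (congrArg Subtype.val h :)
      · rw [smul_eq_mul, Finset.card_univ, ← Nat.card_eq_fintype_card, mul_comm]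
        simp only [B, if_neg (by omega : d ≠ 0)]
        exact Nat.mul_le_mul_left _ (card_sdNoOnes_le hs n (n - d))
  refine (sum_le_sum fun d _ => hB d).trans (le_of_eq ?_)
  rw [Fin.sum_univ_eq_sum_range B, ← Nat.Ico_zero_eq_range, sum_eq_sum_Ico_succ_bot (Nat.succ_pos n), add_comm]
  congr 1
  · refine sum_congr ?_ fun d hd => ?_
    · ext; simp
    · simp only [mem_Icc] at hd
      simp only [B, if_neg (by omega : d ≠ 0)]

/-- the sum of the weights -/
theorem sum_weightU_le (hs : ∀ e, Nat.card (SDPoly σ e) ≤ s e) (q : ℕ) {n : ℕ} (hn : 0 < n)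
    [Fintype (DetU σ n)] :
    ∑ t : DetU σ n, weightU q t.1 ≤ Nat.card (DetU σ n) +
      ∑ D ∈ (n.divisors.erase 1).filter (· ∣ q + 1), D.totient * tNum s (n / D) := by
  classical
  set S := n.divisors.filter (· ∣ q + 1) with hS
  have hdiv : ∀ t : DetU σ n, (weightU q t.1).divisors =
      S.filter fun D => ∀ k, 0 < (t.1 k).natDegree → D ∣ (k : ℕ) + 1 := by
    intro t
    have hiff : ∀ D, D ∣ weightU q t.1 ↔ D ∣ q + 1 ∧ ∀ k, 0 < (t.1 k).natDegree → D ∣ (k : ℕ) + 1 := fun D => by
      simp only [weightU, Nat.dvd_gcd_iff, Finset.dvd_gcd_iff, mem_filter, mem_univ, true_and]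
    ext D
    rw [Nat.mem_divisors, mem_filter, hS, mem_filter, Nat.mem_divisors, hiff]
    constructor
    · rintro ⟨⟨h1, h2⟩, -⟩
      refine ⟨⟨⟨?_, by omega⟩, h1⟩, h2⟩
      have hsum := t.2.1.1.2
      rw [← hsum]
      refine dvd_sum fun k _ => ?_
      rcases Nat.eq_zero_or_pos (t.1 k).natDegree with h0 | h0
      · rw [h0, mul_zero]; exact dvd_zero _
      · exact (h2 k h0).mul_right _
    · rintro ⟨⟨-, h1⟩, h2⟩
      exact ⟨⟨h1, h2⟩, (Nat.gcd_pos_of_pos_left _ (Nat.succ_pos q)).ne'⟩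
  have h1S : 1 ∈ S := by simp [hS]; omega
  calc ∑ t : DetU σ n, weightU q t.1
      = ∑ t : DetU σ n, ∑ D ∈ S.filter (fun D => ∀ k, 0 < (t.1 k).natDegree → D ∣ (k : ℕ) + 1),
          D.totient := sum_congr rfl fun t _ => by rw [← hdiv, Nat.sum_totient]
    _ = ∑ D ∈ S, D.totient * Nat.card {t : DetU σ n // ∀ k, 0 < (t.1 k).natDegree → D ∣ (k : ℕ) + 1} := by
      simp only [sum_filter]
      rw [sum_comm]
      refine sum_congr rfl fun D _ => ?_
      rw [← sum_filter, sum_const, smul_eq_mul, Nat.card_eq_fintype_card, Fintype.card_subtype, mul_comm]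
    _ ≤ _ := by
      rw [← add_sum_erase _ _ h1S, Nat.totient_one, one_mul]
      refine Nat.add_le_add (Finite.card_subtype_le _) ?_
      rw [show S.erase 1 = (n.divisors.erase 1).filter (· ∣ q + 1) by
        ext D; simp [hS, and_assoc]]
      refine sum_le_sum fun D hD => Nat.mul_le_mul_left _ ?_
      simp only [mem_filter, mem_erase, Nat.mem_divisors] at hD
      obtain ⟨⟨hD1, ⟨m, hm⟩, -⟩, -⟩ := hD
      have hD0 : 0 < D := by
        rcases Nat.eq_zero_or_pos D with rfl | h
        · simp at hm; omega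
        · exact h
      have hm0 : 0 < m := by
        rcases Nat.eq_zero_or_pos m with rfl | h
        · simp at hm; omega
        · exact h
      subst hm
      rw [Nat.mul_div_cancel_left m hD0]
      refine le_trans ?_ (card_sdTup_le hs hm0)
      have hlt : ∀ j : Fin m, D * ((j : ℕ) + 1) - 1 < D * m := fun j => by
        have h1 : D * ((j : ℕ) + 1) ≤ D * m := Nat.mul_le_mul_left _ j.isLt
        have h3 : 0 < D * ((j : ℕ) + 1) := Nat.mul_pos hD0 (Nat.succ_pos _)
        omega
      let emb : Fin m ↪ Fin (D * m) := ⟨fun j => ⟨D * ((j : ℕ) + 1) - 1, hlt j⟩, fun a b hab => by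
        have h := congrArg Fin.val hab
        simp only at h
        have h3 : 0 < D * ((a : ℕ) + 1) := Nat.mul_pos hD0 (Nat.succ_pos _)
        have h4 : 0 < D * ((b : ℕ) + 1) := Nat.mul_pos hD0 (Nat.succ_pos _)
        exact Fin.ext (by simpa using Nat.eq_of_mul_eq_mul_left hD0 (show D * ((a : ℕ) + 1) = D * ((b : ℕ) + 1) by omega))⟩
      have hemb : ∀ j, ((emb j : Fin (D * m)) : ℕ) + 1 = D * ((j : ℕ) + 1) := fun j =>
        Nat.sub_add_cancel (Nat.mul_pos hD0 (Nat.succ_pos _))
      have hout : ∀ t : {t : DetU σ (D * m) // ∀ k, 0 < (t.1 k).natDegree → D ∣ (k : ℕ) + 1},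
          ∀ k, k ∉ univ.map emb → t.1.1 k = 1 := by
        intro t k hk
        refine (t.1.2.1.1.1 k).1.natDegree_eq_zero.1 ?_
        by_contra hne
        obtain ⟨c, hc⟩ := t.2 k (Nat.pos_of_ne_zero hne)
        have hc0 : 0 < c := by
          rcases Nat.eq_zero_or_pos c with rfl | h
          · simp at hc
          · exact h
        have hcm : c ≤ m := Nat.le_of_mul_le_mul_left (hc ▸ k.isLt) hD0
        refine hk (mem_map.2 ⟨⟨c - 1, by omega⟩, mem_univ _, Fin.ext ?_⟩)
        show D * (c - 1 + 1) - 1 = k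
        rw [Nat.sub_add_cancel hc0, ← hc]
        omega
      have hsum : ∀ t : {t : DetU σ (D * m) // ∀ k, 0 < (t.1 k).natDegree → D ∣ (k : ℕ) + 1},
          ∑ j : Fin m, ((j : ℕ) + 1) * (t.1.1 (emb j)).natDegree = m := by
        intro t
        have h := t.1.2.1.1.2
        rw [← sum_subset (subset_univ (univ.map emb))
          (fun k _ hk => by rw [hout t k hk, natDegree_one, mul_zero]), sum_map] at h
        simp only [hemb, mul_assoc, ← mul_sum] at h
        exact Nat.eq_of_mul_eq_mul_left hD0 h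
      refine Nat.card_le_card_of_injective (fun t => (⟨fun j => t.1.1 (emb j),
        ⟨fun j => t.1.2.1.1.1 _, hsum t⟩, fun j => t.1.2.1.2 _⟩ : SDTup σ m m)) ?_
      refine fun t u htu => Subtype.ext (Subtype.ext (funext fun k => ?_))
      by_cases hk : k ∈ univ.map emb
      · obtain ⟨j, -, rfl⟩ := mem_map.1 hk
        exact congrFun (congrArg Subtype.val htu) j
      · rw [hout t k hk, hout u k hk]

end Cfsg.Agent.CN9
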