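import Cfsg.Agent.ClassNum9.Realize
import Cfsg.Agent.Forms59.UnitaryConj
import Cfsg.Agent.Forms59.Hilbert90
import Cfsg.Agent.Lib.GLSemisimple.Unitary

/-!
Elementary divisor data of unitary matrices, and the determinants on their centralisers.
-/

set_option autoImplicit false

namespace Cfsg.Agent.CN9

open Polynomial Matrix Module Cfsg.Agent.GLSemi Cfsg.Agent.ClassBound

universe u

variable {F : Type u} [Field F] [Fintype F] [StarRing F] {q : ℕ}

theorem coe_isConj {n : ℕ} {g h : GL (Fin n) F} (hc : IsConj g h) :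
    IsConj (g : Matrix (Fin n) (Fin n) F) (h : Matrix (Fin n) (Fin n) F) :=
  (Units.coeHom (Matrix (Fin n) (Fin n) F)).map_isConj hc

omit [StarRing F] in
theorem realizes_conj {n : ℕ} {g h : GL (Fin n) F} {s : Multiset (F[X] × ℕ)} (hc : IsConj g h)
    (hg : Realizes (g : Matrix (Fin n) (Fin n) F) s) : Realizes (h : Matrix (Fin n) (Fin n) F) s := by
  obtain ⟨x, hx⟩ := isConj_iff.1 hc
  intro f hf hm h0 i
  rw [← hx, Units.val_mul, Units.val_mul, kerDim_conj]
  exact hg f hf hm h0 i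

omit [StarRing F] in
theorem aeval_conj {n : ℕ} (x : GL (Fin n) F) (D : Matrix (Fin n) (Fin n) F) (h : F[X]) :
    aeval ((x : Matrix (Fin n) (Fin n) F) * D * ((x⁻¹ : GL (Fin n) F) : Matrix (Fin n) (Fin n) F)) h =
      (x : Matrix (Fin n) (Fin n) F) * aeval D h * ((x⁻¹ : GL (Fin n) F) : Matrix (Fin n) (Fin n) F) := by
  induction h using Polynomial.induction_on with
  | C a => rw [aeval_C, aeval_C, ← Algebra.commutes, mul_assoc, Units.mul_inv, mul_one]
  | add p r hp hr => rw [map_add, map_add, hp, hr, mul_add, add_mul]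
  | monomial k a ih =>
    rw [pow_succ, ← mul_assoc, map_mul (aeval _) (C a * X ^ k), map_mul (aeval D) (C a * X ^ k), ih, aeval_X,
      aeval_X]
    simp only [mul_assoc, Units.inv_mul_cancel_left]

theorem star_blockSum {d m : ℕ} (A : Matrix (Fin d) (Fin d) F) (B : Matrix (Fin m) (Fin m) F) :
    (blockSum d m (A, B))ᴴ = blockSum d m (Aᴴ, Bᴴ) := by
  rw [blockSum_apply, blockSum_apply, Matrix.conjTranspose_reindex, Matrix.fromBlocks_conjTranspose,
    conjTranspose_zero, conjTranspose_zero]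

variable (hs : ∀ x : F, star x = x ^ q) (hF : Fintype.card F = q ^ 2)
include hs

theorem gu_dualData {n : ℕ} (g : ↥(Cfsg.GU n F q)) {s : Multiset (F[X] × ℕ)} (hv : IsDivData n s)
    (hg : Realizes ((g : GL (Fin n) F) : Matrix (Fin n) (Fin n) F) s) : dualData (starRingEnd F) s = s := by
  have hU := (Forms59.mem_GU_iff_conjTranspose hs (g : GL (Fin n) F)).1 g.2
  have h := realizes_dual (σ := starRingEnd F) star_star (g : GL (Fin n) F) hv hg
  have he : (((g : GL (Fin n) F) : Matrix (Fin n) (Fin n) F).map (starRingEnd F))ᵀ =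
      ((g : GL (Fin n) F) : Matrix (Fin n) (Fin n) F)ᴴ := rfl
  rw [he, Matrix.inv_eq_right_inv hU] at h
  exact (eq_of_realizes hv.1 (dualData_valid (σ := starRingEnd F) star_star hv).1 hg h).symm

include hF

theorem exists_unitary_realizer {n : ℕ} {s : Multiset (F[X] × ℕ)} (hv : IsDivData n s)
    (hd : dualData (starRingEnd F) s = s) :
    ∃ U : ↥(Cfsg.GU n F q), Realizes ((U : GL (Fin n) F) : Matrix (Fin n) (Fin n) F) s := by
  obtain ⟨A, hA⟩ := exists_realizer s (fun z hz =>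
    ⟨(hv.1 z hz).1, (hv.1 z hz).2.1, (hv.1 z hz).2.2.1, (hv.1 z hz).2.2.2.1⟩) n hv.2
  have h := realizes_dual (σ := starRingEnd F) star_star A hv hA
  rw [hd] at h
  have hu : IsUnit ((((A : Matrix (Fin n) (Fin n) F).map (starRingEnd F))ᵀ)⁻¹) :=
    Matrix.isUnit_nonsing_inv_iff.2 ((Matrix.isUnit_transpose _).mpr (A.isUnit.map (starRingEnd F).mapMatrix))
  have hc := coe_isConj (isConj_of_realizes (g := A) (h := hu.unit) hv hA h)
  rw [IsUnit.unit_spec] at hc
  have he : (A : Matrix (Fin n) (Fin n) F).map (starRingEnd F) =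
      (A : Matrix (Fin n) (Fin n) F).map (fun x : F => x ^ q) := by
    ext i j; exact hs _
  rw [he] at hc
  obtain ⟨B, hB⟩ := (Forms59.similar_to_unitary_iff hF A).2 hc
  exact ⟨B, realizes_conj hB hA⟩

/-- a unitary block containing a given elementary divisor, with a centralising element of given determinant -/
theorem exists_block {n : ℕ} {s : Multiset (F[X] × ℕ)} (hv : IsDivData n s)
    (hd : dualData (starRingEnd F) s = s) {z : F[X] × ℕ} (hz : z ∈ s) {δ : F} (hδ : δ * star δ = 1) :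
    ∃ (d : ℕ) (s₁ : Multiset (F[X] × ℕ)) (U C : Matrix (Fin d) (Fin d) F), s₁ ≤ s ∧
      dualData (starRingEnd F) s₁ = s₁ ∧ (s₁.map fun w => w.2 * w.1.natDegree).sum = d ∧ Realizes U s₁ ∧
      Uᴴ * U = 1 ∧ Cᴴ * C = 1 ∧ C * U = U * C ∧ C.det = δ ^ z.2 := by
  classical
  obtain ⟨θ, hθ'⟩ := (Forms59.card_sq_facts hF).2.2.2
  have hθ : star θ ≠ θ := by rw [hs]; exact hθ'
  obtain ⟨a, ha, haδ⟩ := Forms59.hilbert90_finite (starRingEnd F) star_star θ
    (sub_ne_zero.2 (Ne.symm hθ)).isUnit δ hδ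
  obtain ⟨f, e⟩ := z
  obtain ⟨hm, hi, h0, he, hen⟩ := hv.1 _ hz
  simp only at hm hi h0 he hen
  obtain ⟨y, hy⟩ := exists_norm_pow hi hm he a
  obtain ⟨r, hr⟩ := AdjoinRoot.mk_surjective (g := f ^ e) y
  set f' := dual (starRingEnd F) f with hf'
  have key : ∃ (d : ℕ) (s₁ : Multiset (F[X] × ℕ)) (D : GL (Fin d) F) (h : F[X]), s₁ ≤ s ∧
      dualData (starRingEnd F) s₁ = s₁ ∧ (s₁.map fun w => w.2 * w.1.natDegree).sum = d ∧
      Realizes (D : Matrix (Fin d) (Fin d) F) s₁ ∧ (aeval (D : Matrix (Fin d) (Fin d) F) h).det = a ^ e := by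
    by_cases hff : f' = f
    · obtain ⟨D, hD, hDdet⟩ := exists_single hi hm h0 he
      refine ⟨_, {(f, e)}, D, r, Multiset.singleton_le.2 hz, ?_, ?_, hD, ?_⟩
      · rw [dualData, Multiset.map_singleton, ← hf', hff]
      · rw [Multiset.map_singleton, Multiset.sum_singleton]
      · rw [hDdet, hr, hy]
    · have hi' : Irreducible f' := irreducible_dual _ star_star hi hm h0
      have hm' : f'.Monic := monic_dual _ h0
      have h0' : f'.coeff 0 ≠ 0 := dual_coeff_zero_ne _ hm h0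
      have hz' : (f', e) ∈ s := hd ▸ Multiset.mem_map.2 ⟨(f, e), hz, rfl⟩
      have hco : IsCoprime (f ^ e) (f' ^ e) := (hi.coprime_iff_not_dvd.mpr fun hdvd =>
        hff (eq_of_monic_of_associated hm hm' (hi.associated_of_dvd hi' hdvd)).symm).pow
      obtain ⟨u, v, huv⟩ := hco
      obtain ⟨D₁, hD₁, hd₁⟩ := exists_single hi hm h0 he
      obtain ⟨D₂, hD₂, hd₂⟩ := exists_single hi' hm' h0' he
      have hle : ({(f, e)} + {(f', e)} : Multiset (F[X] × ℕ)) ≤ s := by
        have hne : (f', e) ≠ (f, e) := fun h => hff (congrArg Prod.fst h)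
        rw [Multiset.singleton_add, ← Multiset.cons_erase hz]
        exact Multiset.cons_le_cons _ (Multiset.singleton_le.2 ((Multiset.mem_erase_of_ne hne).2 hz'))
      refine ⟨_, {(f, e)} + {(f', e)}, (isUnit_blockSum D₁.isUnit D₂.isUnit).unit,
        1 + (r - 1) * (v * f' ^ e), hle, ?_, ?_, ?_, ?_⟩
      · rw [dualData, Multiset.map_add, Multiset.map_singleton, Multiset.map_singleton, ← hf',
          dual_dual (starRingEnd F) star_star hm h0, add_comm]
      · rw [Multiset.map_add, Multiset.sum_add, Multiset.map_singleton, Multiset.map_singleton,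
          Multiset.sum_singleton, Multiset.sum_singleton]
      · rw [IsUnit.unit_spec]; exact realizes_blockSum hD₁ hD₂
      · rw [IsUnit.unit_spec, aeval_algHom_apply, aeval_prod_apply, det_blockSum, hd₁, hd₂]
        have e1 : AdjoinRoot.mk (f ^ e) (1 + (r - 1) * (v * f' ^ e)) = y := by
          rw [← hr, AdjoinRoot.mk_eq_mk]
          refine ⟨-((r - 1) * u), ?_⟩
          linear_combination (r - 1) * huv
        have e2 : AdjoinRoot.mk (f' ^ e) (1 + (r - 1) * (v * f' ^ e)) = 1 := by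
          rw [map_add, map_one, map_mul, map_mul, AdjoinRoot.mk_self, mul_zero, mul_zero, add_zero]
        rw [e1, e2, map_one, mul_one, hy]
  obtain ⟨d, s₁, D, h, hle, hd1, hdsum, hD, hdet⟩ := key
  have hv1 : IsDivData d s₁ := by
    refine ⟨fun w hw => ?_, hdsum⟩
    obtain ⟨a1, a2, a3, a4, -⟩ := hv.1 w (Multiset.mem_of_le hle hw)
    refine ⟨a1, a2, a3, a4, ?_⟩
    refine le_trans (Nat.le_mul_of_pos_right _ a2.natDegree_pos) (hdsum ▸ ?_)
    exact Multiset.le_sum_of_mem (Multiset.mem_map_of_mem (fun w : F[X] × ℕ => w.2 * w.1.natDegree) hw)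
  obtain ⟨U, hU⟩ := exists_unitary_realizer hs hF hv1 hd1
  obtain ⟨x, hx⟩ := isConj_iff.1 (isConj_of_realizes hv1 hD hU)
  set M := ((U : GL (Fin d) F) : Matrix (Fin d) (Fin d) F) with hM
  have hMU : Mᴴ * M = 1 := (Forms59.mem_GU_iff_conjTranspose hs (U : GL (Fin d) F)).1 U.2
  set H := aeval M h with hH
  have hHdet : H.det = a ^ e := by
    have hx' : M = (x : Matrix (Fin d) (Fin d) F) * D * ((x⁻¹ : GL (Fin d) F) : Matrix (Fin d) (Fin d) F) := by
      rw [hM, ← hx, Units.val_mul, Units.val_mul]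
    rw [hH, hx', aeval_conj, Matrix.coe_units_inv, Matrix.det_conj x.isUnit, hdet]
  have hHu : IsUnit H.det := by rw [hHdet]; exact ha.pow e
  have hHu' : IsUnit (Hᴴ).det := by rw [Matrix.det_conjTranspose]; exact hHu.star
  have hMM : Commute M Mᴴ := by
    show M * Mᴴ = Mᴴ * M
    rw [hMU, mul_eq_one_comm.1 hMU]
  have hstar : ∀ A B : Matrix (Fin d) (Fin d) F, Commute A B → Commute Aᴴ Bᴴ := fun A B h => by
    show Aᴴ * Bᴴ = Bᴴ * Aᴴ
    rw [← conjTranspose_mul, ← conjTranspose_mul, h.eq]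
  have hcH : ∀ A, Commute A M → Commute A H := fun A hA => by
    rw [hH]
    clear_value M
    clear hdet hHdet hHu hHu' hH H
    induction h using Polynomial.induction_on with
    | C c => rw [aeval_C]; exact (Algebra.commute_algebraMap_left c A).symm
    | add p r hp hr => rw [map_add]; exact Commute.add_right hp hr
    | monomial k c _ =>
      rw [map_mul, map_pow, aeval_C, aeval_X]
      exact (Algebra.commute_algebraMap_left c A).symm.mul_right (hA.pow_right _)
  have hMH' : Commute M Hᴴ := by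
    have := hstar _ _ (hcH Mᴴ hMM.symm)
    rwa [conjTranspose_conjTranspose] at this
  have hHH : Commute H Hᴴ := (hcH Hᴴ hMH'.symm).symm
  refine ⟨d, s₁, M, H * (Hᴴ)⁻¹, hle, hd1, hdsum, hU, hMU, ?_, ?_, ?_⟩
  · rw [conjTranspose_mul, conjTranspose_nonsing_inv, conjTranspose_conjTranspose]
    calc H⁻¹ * Hᴴ * (H * Hᴴ⁻¹) = H⁻¹ * (Hᴴ * H) * Hᴴ⁻¹ := by simp only [mul_assoc]
      _ = H⁻¹ * (H * Hᴴ) * Hᴴ⁻¹ := by rw [hHH.eq]
      _ = (H⁻¹ * H) * (Hᴴ * Hᴴ⁻¹) := by simp only [mul_assoc]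
      _ = 1 := by rw [Matrix.nonsing_inv_mul _ hHu, Matrix.mul_nonsing_inv _ hHu', one_mul]
  · have h1 : Hᴴ⁻¹ * M = M * Hᴴ⁻¹ := by
      calc Hᴴ⁻¹ * M = Hᴴ⁻¹ * (M * Hᴴ) * Hᴴ⁻¹ := by
            rw [mul_assoc, mul_assoc, Matrix.mul_nonsing_inv _ hHu', mul_one]
        _ = Hᴴ⁻¹ * (Hᴴ * M) * Hᴴ⁻¹ := by rw [hMH'.eq]
        _ = M * Hᴴ⁻¹ := by rw [← mul_assoc, Matrix.nonsing_inv_mul _ hHu', one_mul]
    rw [mul_assoc, h1, ← mul_assoc, ← (hcH M (Commute.refl M)).eq, mul_assoc]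
  · rw [det_mul, Matrix.det_nonsing_inv, Matrix.det_conjTranspose, hHdet, Ring.inverse_eq_inv',
      ← div_eq_mul_inv, star_pow, ← div_pow]
    congr 1
    rw [div_eq_iff (star_ne_zero.2 ha.ne_zero)]
    exact haδ.symm

/-- determinants on the centraliser in `GU` -/
theorem exists_commute_det {n : ℕ} (g : ↥(Cfsg.GU n F q)) {s : Multiset (F[X] × ℕ)} (hv : IsDivData n s)
    (hg : Realizes ((g : GL (Fin n) F) : Matrix (Fin n) (Fin n) F) s) {z : F[X] × ℕ} (hz : z ∈ s) {δ : F}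
    (hδ : δ * star δ = 1) :
    ∃ c : ↥(Cfsg.GU n F q), c * g = g * c ∧
      ((c : GL (Fin n) F) : Matrix (Fin n) (Fin n) F).det = δ ^ z.2 := by
  classical
  have hd := gu_dualData hs g hv hg
  obtain ⟨d, s₁, U₁, C₁, hle, hd₁, hsum₁, hU₁, hUU, hCC, hcomm, hdet⟩ := exists_block hs hF hv hd hz hδ
  set t := s - s₁ with ht
  have hst : s₁ + t = s := add_tsub_cancel_of_le hle
  have hd₂ : dualData (starRingEnd F) t = t := by
    have h := hd
    rw [← hst, dualData, Multiset.map_add] at h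
    rw [dualData] at hd₁
    rw [hd₁] at h
    exact add_left_cancel h
  set m := (t.map fun w => w.2 * w.1.natDegree).sum with hm
  have hn : d + m = n := by
    rw [← hsum₁, hm, ← Multiset.sum_add, ← Multiset.map_add, hst]; exact hv.2
  subst hn
  have hv2 : IsDivData m t := by
    refine ⟨fun w hw => ?_, hm.symm⟩
    obtain ⟨a1, a2, a3, a4, -⟩ := hv.1 w (hst ▸ Multiset.mem_add.2 (Or.inr hw))
    refine ⟨a1, a2, a3, a4, ?_⟩
    refine le_trans (Nat.le_mul_of_pos_right _ a2.natDegree_pos) ?_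
    rw [hm]
    exact Multiset.le_sum_of_mem (Multiset.mem_map_of_mem (fun w : F[X] × ℕ => w.2 * w.1.natDegree) hw)
  obtain ⟨U₂, hU₂⟩ := exists_unitary_realizer hs hF hv2 hd₂
  set M₂ := ((U₂ : GL (Fin m) F) : Matrix (Fin m) (Fin m) F)
  have hM₂ : M₂ᴴ * M₂ = 1 := (Forms59.mem_GU_iff_conjTranspose hs (U₂ : GL (Fin m) F)).1 U₂.2
  have huni : ∀ {A : Matrix (Fin d) (Fin d) F} {B : Matrix (Fin m) (Fin m) F}, Aᴴ * A = 1 → Bᴴ * B = 1 →
      (blockSum d m (A, B))ᴴ * blockSum d m (A, B) = 1 := by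
    intro A B hA hB
    rw [star_blockSum, ← map_mul, Prod.mk_mul_mk, hA, hB]
    exact map_one _
  let toGU : ∀ A : Matrix (Fin (d + m)) (Fin (d + m)) F, Aᴴ * A = 1 → ↥(Cfsg.GU (d + m) F q) := fun A hA =>
    ⟨⟨A, Aᴴ, mul_eq_one_comm.1 hA, hA⟩, (Forms59.mem_GU_iff_conjTranspose hs _).2 hA⟩
  let U := toGU _ (huni hUU hM₂)
  let C := toGU _ (huni (A := C₁) (B := 1) hCC (by rw [conjTranspose_one, one_mul]))
  have hUr : Realizes ((U : GL (Fin (d + m)) F) : Matrix (Fin (d + m)) (Fin (d + m)) F) s :=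
    hst ▸ realizes_blockSum hU₁ hU₂
  obtain ⟨y, hy⟩ := isConj_iff.1 ((Forms59.gu_isConj_iff hF U g).2 (isConj_of_realizes hv hUr hg))
  have hCU : C * U = U * C := Subtype.ext (Units.ext (by
    show blockSum d m (C₁, 1) * blockSum d m (U₁, M₂) = blockSum d m (U₁, M₂) * blockSum d m (C₁, 1)
    rw [← map_mul, ← map_mul, Prod.mk_mul_mk, Prod.mk_mul_mk, hcomm, one_mul, mul_one]))
  refine ⟨y * C * y⁻¹, ?_, ?_⟩
  · rw [← hy]
    calc y * C * y⁻¹ * (y * U * y⁻¹) = y * (C * U) * y⁻¹ := by group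
      _ = y * (U * C) * y⁻¹ := by rw [hCU]
      _ = _ := by group
  · rw [Subgroup.coe_mul, Subgroup.coe_mul, Subgroup.coe_inv, Units.val_mul, Units.val_mul,
      Matrix.coe_units_inv, Matrix.det_conj (Units.isUnit _)]
    show (blockSum d m (C₁, 1)).det = _
    rw [det_blockSum, det_one, mul_one, hdet]

end Cfsg.Agent.CN9
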